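import Cfsg.Agent.Lib.CentTI.Core
import Cfsg.Agent.Lib.ZassenhausDegree.Main
import Cfsg.Agent.Lib.SuzukiZT.Square

/-!
The centraliser of the involutions is abelian: otherwise the group would be a Suzuki group, in which the
centraliser of an element of order four is not invariant under the Sylow normaliser.
-/

set_option autoImplicit false
set_option linter.unusedSectionVars false
set_option linter.style.haveILetI false

universe u v

namespace CfsgLib.CentTI

/-- In a simple Zassenhaus group with non-abelian kernel of two-power order some kernel element does not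
commute with its conjugates under a two-point stabiliser. -/
theorem false_of_comm {G : Type u} {Ω : Type v} [Group G] [Fintype G] [MulAction G Ω] [Fintype Ω]
    (S : SuzukiZT.Hyp G Ω)
    (hc : ∀ x ∈ S.P.H, ∀ d ∈ S.P.E, x * (d * x * d⁻¹) = d * x * d⁻¹ * x) : False := by
  classical
  obtain ⟨u, hu, v, hv, hne⟩ := S.na
  set Z := Subgroup.center S.P.K with hZ
  set x : S.P.K := ⟨⟨u, S.P.le hu⟩, Subgroup.mem_subgroupOf.mpr hu⟩ with hx
  have hxZ : x ∉ Z := fun hm => hne (congrArg (fun z : S.P.K => ((z : S.P.A) : G))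
    (Subgroup.mem_center_iff.mp hm ⟨⟨v, S.P.le hv⟩, Subgroup.mem_subgroupOf.mpr hv⟩).symm)
  set W := Subgroup.centralizer ({x} : Set S.P.K) with hW
  have hcx : ∀ d : S.P.E, S.conj d x ∈ W := fun d =>
    Subgroup.mem_centralizer_singleton_iff.mpr (Subtype.ext (Subtype.ext (hc u hu d d.2).symm))
  have hZW : Z ≤ W := fun z hz =>
    Subgroup.mem_centralizer_singleton_iff.mpr (Subgroup.mem_center_iff.mp hz x).symm
  have hsq : ∀ (d : S.P.E) (z : Z), S.conj d x * z * (S.conj d x * z) = S.conj d (x * x) := by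
    intro d z
    have e := Subgroup.mem_center_iff.mp z.2 (S.conj d x)
    calc S.conj d x * z * (S.conj d x * z) = S.conj d x * (z * S.conj d x) * z := by group
      _ = S.conj d x * (S.conj d x * z) * z := by rw [e]
      _ = S.conj d x * S.conj d x * ((z : S.P.K) * z) := by group
      _ = _ := by rw [S.center_sq z.2, mul_one, map_mul]
  have hx2 : x * x ≠ 1 := fun e => hxZ (S.mem_center_of_sq e)
  let f : Z ⊕ (S.P.E × Z) → W := Sum.elim (fun z => ⟨z, hZW z.2⟩)
    fun p => ⟨S.conj p.1 x * p.2, mul_mem (hcx p.1) (hZW p.2.2)⟩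
  have hf : Function.Injective f := by
    have key : ∀ (z : Z) (p : S.P.E × Z), (z : S.P.K) ≠ S.conj p.1 x * p.2 := by
      intro z p e
      have h1 : S.conj p.1 (x * x) = 1 := by rw [← hsq p.1 p.2, ← e, S.center_sq z.2]
      exact hx2 ((map_eq_one_iff _ (S.conj p.1).injective).mp h1)
    rintro (z | p) (z' | p') e
    all_goals have e' := congrArg (fun w : W => (w : S.P.K)) e
    all_goals simp only [f, Sum.elim_inl, Sum.elim_inr] at e'
    · exact congrArg Sum.inl (Subtype.ext e')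
    · exact absurd e' (key z p')
    · exact absurd e'.symm (key z' p)
    · have h1 : S.conj p.1 (x * x) = S.conj p'.1 (x * x) := by rw [← hsq p.1 p.2, ← hsq p'.1 p'.2, e']
      have h2 : p.1 = p'.1 := by
        refine (inv_mul_eq_one.mp (S.conj_free hx2 (x := p'.1⁻¹ * p.1) ?_)).symm
        rw [map_mul S.conj, MulAut.mul_apply, h1, ← MulAut.mul_apply, ← map_mul S.conj, inv_mul_cancel, map_one,
          MulAut.one_apply]
      rw [h2] at e'
      exact congrArg Sum.inr (Prod.ext h2 (Subtype.ext (mul_left_cancel e')))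
  have hcard := Nat.card_le_card_of_injective f hf
  rw [Nat.card_sum, Nat.card_prod] at hcard
  have hh : Nat.card S.P.K = S.q ^ 2 := by rw [S.P.card_K]; exact S.h_eq_sq
  have hq : S.q = Nat.card S.P.E + 1 := S.q_eq
  have hge : Nat.card S.P.K ≤ Nat.card W := by
    refine le_trans (le_of_eq ?_) hcard
    rw [hh]
    show S.q ^ 2 = S.q + Nat.card S.P.E * S.q
    rw [hq]; ring
  have htop := Subgroup.eq_top_of_le_card W hge
  refine hxZ (Subgroup.mem_center_iff.mpr fun y => ?_)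
  have hy : y ∈ W := htop ▸ Subgroup.mem_top y
  exact Subgroup.mem_centralizer_singleton_iff.mp hy

open Cfsg Subgroup
open CfsgLib.Involutions (mul_self_eq_one_of_orderOf inv_eq_self_of_orderOf orderOf_conj)

variable {G : Type*} [Group G] [Finite G] {T : Sylow 2 G}

/-- The action on the cosets of the Sylow normaliser is that of a Zassenhaus group with kernel `C(T)`. -/
theorem exists_datum (h : Hyp T) [Fintype G] [Fintype (G ⧸ Nn T)] :
    ∃ P : ZassenhausDegree.Datum G (G ⧸ Nn T), P.H = Aa T ∧ Nat.card P.E = ee T ∧ Odd (Nat.card P.E) := by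
  classical
  obtain ⟨u, hu, huH⟩ := exists_u h
  have hu' := inv_eq_self_of_orderOf hu
  have hu2 := mul_self_eq_one_of_orderOf hu
  set x₀ : G ⧸ Nn T := ((1 : G) : G ⧸ Nn T) with hx₀
  set y₀ : G ⧸ Nn T := (u : G ⧸ Nn T) with hy₀
  have hfix : ∀ (x g : G), x • ((g : G ⧸ Nn T)) = (g : G ⧸ Nn T) ↔ g⁻¹ * x * g ∈ Nn T := by
    intro x g
    rw [MulAction.Quotient.smul_coe, smul_eq_mul, QuotientGroup.eq, ← inv_mem_iff]
    simp [mul_assoc]
  have hfix₀ : ∀ x : G, x • x₀ = x₀ ↔ x ∈ Nn T := fun x => by rw [hx₀, hfix]; simp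
  have hne₀ : ∀ g : G, (g : G ⧸ Nn T) ≠ x₀ ↔ g ∉ Nn T := fun g => by
    rw [ne_eq, hx₀, QuotientGroup.eq, mul_one, inv_mem_iff]
  have hy₀ne : y₀ ≠ x₀ := (hne₀ u).mpr huH
  have hD : ∀ k : G, (k • x₀ = x₀ ∧ k • y₀ = y₀) ↔ k ∈ Dd T u := by
    intro k
    rw [hfix₀, hy₀, hfix, hu']
    exact ⟨fun hk => mem_Dd hu hk.1 hk.2, fun hk => ⟨hk.1, conj_mem_of_Dd hu hk⟩⟩
  have hcard : Fintype.card (G ⧸ Nn T) = Nat.card ↥(Aa T) + 1 := by
    rw [← Nat.card_eq_fintype_card, ← Subgroup.index_eq_card, index_N h]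
  have heven : 2 ∣ Nat.card ↥(Aa T) := by
    obtain ⟨t, ht, hto⟩ := exists_inv_mem h
    exact hto ▸ Subgroup.orderOf_dvd_natCard _ (h.T_le ht)
  -- `C(T)` is regular off the base point
  have hsemi : ∀ b ∈ Aa T, ∀ y : G ⧸ Nn T, y ≠ x₀ → b • y = y → b = 1 := by
    intro b hb y hy hfy
    obtain ⟨g, rfl⟩ := QuotientGroup.mk_surjective y
    exact c1 h hb ((hne₀ g).mp hy) ((hfix b g).mp hfy)
  have hreg : ∀ y z : G ⧸ Nn T, y ≠ x₀ → z ≠ x₀ → ∃! b : ↥(Aa T), (b : G) • y = z := by
    intro y z hy hz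
    have hmem : ∀ b : ↥(Aa T), (b : G) • y ≠ x₀ := fun b e => hy (by
      rw [← inv_smul_smul (b : G) y, e]
      exact (hfix₀ _).mpr (inv_mem (h.le b.2)))
    let f : ↥(Aa T) → {w : G ⧸ Nn T // w ≠ x₀} := fun b => ⟨(b : G) • y, hmem b⟩
    have hinj : Function.Injective f := by
      intro b c e
      have e' : (b : G) • y = (c : G) • y := congrArg Subtype.val e
      have := hsemi ((c : G)⁻¹ * b) (mul_mem (inv_mem c.2) b.2) y hy (by rw [mul_smul, e', inv_smul_smul])
      exact Subtype.ext (inv_mul_eq_one.mp this).symm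
    have hsurj : Function.Surjective f := ((Nat.bijective_iff_injective_and_card f).mpr ⟨hinj, by
      rw [Nat.card_eq_fintype_card (α := {w : G ⧸ Nn T // w ≠ x₀}), Fintype.card_subtype_compl,
        Fintype.card_subtype_eq, hcard, Nat.add_sub_cancel]⟩).2
    obtain ⟨b, hb⟩ := hsurj ⟨z, hz⟩
    refine ⟨b, congrArg Subtype.val hb, fun c hc => hinj ?_⟩
    rw [hb]
    exact Subtype.ext hc
  have hmove : ∀ p q : G ⧸ Nn T, p ≠ q → ∃ g : G, g • p = x₀ ∧ g • q = y₀ := by
    intro p q hpq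
    obtain ⟨g, hg⟩ := MulAction.exists_smul_eq G p x₀
    have hgq : g • q ≠ x₀ := fun e => hpq (MulAction.injective g (hg.trans e.symm))
    obtain ⟨b, hb, -⟩ := hreg (g • q) y₀ hgq hy₀ne
    exact ⟨(b : G) * g, by rw [mul_smul, hg, (hfix₀ _).mpr (h.le b.2)], by rw [mul_smul, hb]⟩
  have h2t : MulAction.IsMultiplyPretransitive G (G ⧸ Nn T) 2 := by
    rw [MulAction.is_two_pretransitive_iff]
    intro p q r s hpq hrs
    obtain ⟨g, hg1, hg2⟩ := hmove p q hpq
    obtain ⟨k, hk1, hk2⟩ := hmove r s hrs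
    refine ⟨k⁻¹ * g, ?_, ?_⟩
    · rw [mul_smul, hg1, ← hk1, inv_smul_smul]
    · rw [mul_smul, hg2, ← hk2, inv_smul_smul]
  have h3 : ∀ g : G, ∀ p q r : G ⧸ Nn T, p ≠ q → q ≠ r → p ≠ r → g • p = p → g • q = q → g • r = r → g = 1 := by
    intro g p q r hpq hqr hpr hp hq hr
    obtain ⟨m, hm1, hm2⟩ := hmove p q hpq
    set k := m * g * m⁻¹ with hk
    have hkfix : ∀ w : G ⧸ Nn T, g • w = w → k • (m • w) = m • w := fun w hw => by
      rw [hk, mul_smul, mul_smul, inv_smul_smul, hw]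
    have hkD : k ∈ Dd T u := (hD k).mp ⟨by rw [← hm1]; exact hkfix p hp, by rw [← hm2]; exact hkfix q hq⟩
    have hz : m • r ≠ x₀ := fun e => hpr (MulAction.injective m (hm1.trans e.symm))
    obtain ⟨b, hb, -⟩ := hreg y₀ (m • r) hy₀ne hz
    have hb1 : (b : G) ≠ 1 := fun e => by
      rw [e, one_smul] at hb
      exact hqr (MulAction.injective m (hm2.trans hb))
    have e1 : (k * b * k⁻¹) • y₀ = (b : G) • y₀ := by
      rw [mul_smul, mul_smul, inv_smul_eq_iff.mpr ((hD k).mpr hkD).2.symm, hb, hkfix r hr]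
    have hcomm : k * b * k⁻¹ = b := by
      have := hsemi ((b : G)⁻¹ * (k * b * k⁻¹)) (mul_mem (inv_mem b.2) (N_conj_A hkD.1 b.2)) y₀ hy₀ne
        (by rw [mul_smul, e1, inv_smul_smul])
      exact (inv_mul_eq_one.mp this).symm
    by_contra hg1
    exact hb1 (fpf h hu huH b.2 hkD (fun e => hg1 (conj_eq_one_iff.mp e)) (mul_inv_eq_iff_eq_mul.mp hcomm).symm)
  have hfaith : FaithfulSMul G (G ⧸ Nn T) := by
    have hcore : (Nn T).normalCore = ⊥ := by
      refine (Subgroup.eq_bot_iff_forall _).mpr fun r hr => ?_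
      have hn : ∀ x ∈ (Nn T).normalCore, x ∈ Dd T u := fun x hx => mem_Dd hu ((Nn T).normalCore_le hx) (by
        have := (Subgroup.normalCore_normal (Nn T)).conj_mem x hx u
        rw [hu'] at this
        exact (Nn T).normalCore_le this)
      obtain ⟨s, hs, hso⟩ := exists_inv_mem h
      have hsA := h.T_le hs
      have e : r * s * r⁻¹ * s⁻¹ = 1 :=
        D_inf_A h hu huH (mul_mem (N_conj_A ((Nn T).normalCore_le hr) hsA) (inv_mem hsA)) (hn _ (by
          rw [show r * s * r⁻¹ * s⁻¹ = r * (s * r⁻¹ * s⁻¹) by group]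
          exact mul_mem hr ((Subgroup.normalCore_normal (Nn T)).conj_mem _ (inv_mem hr) s)))
      exact D_inf_A h hu huH (mem_A_of_commute h hs hso (mul_inv_eq_iff_eq_mul.mp (mul_inv_eq_one.mp e))) (hn r hr)
    have hker : (MulAction.toPermHom G (G ⧸ Nn T)).ker = ⊥ := by rw [← Subgroup.normalCore_eq_ker, hcore]
    exact ⟨fun {a b} e => (MonoidHom.ker_eq_bot_iff _).mp hker (Equiv.ext e)⟩
  have hex : ∃ g : G, g ≠ 1 ∧ ∃ p q : G ⧸ Nn T, p ≠ q ∧ g • p = p ∧ g • q = q := by
    obtain ⟨d, hd, hd1⟩ := exists_D_ne_one h hu huH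
    exact ⟨d, hd1, x₀, y₀, hy₀ne.symm, (hD d).mpr hd⟩
  have hnr : ∀ M : Subgroup G, M.Normal → MulAction.IsPretransitive M (G ⧸ Nn T) →
      ∃ p : G ⧸ Nn T, MulAction.stabilizer M p ≠ ⊥ := by
    intro M hM htr
    refine ⟨x₀, fun hst => ?_⟩
    have hMN : ∀ m ∈ M, m ∈ Nn T → m = 1 := by
      intro m hm hmN
      have : (⟨m, hm⟩ : M) ∈ MulAction.stabilizer M x₀ :=
        MulAction.mem_stabilizer_iff.mpr ((hfix₀ m).mpr hmN)
      rw [hst, Subgroup.mem_bot] at this
      exact congrArg Subtype.val this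
    obtain ⟨s, hs, hso⟩ := exists_inv_mem h
    obtain ⟨t, ht, hto, hts⟩ : ∃ t ∈ T, orderOf t = 2 ∧ t ≠ s := by
      by_contra hc
      push Not at hc
      have : Nat.card {t : G // orderOf t = 2 ∧ t ∈ Nn T} = 1 :=
        Nat.card_eq_one_iff_exists.mpr ⟨⟨s, hso, Subgroup.le_normalizer hs⟩, fun i =>
          Subtype.ext (hc i (inv_mem_T i.2.2 i.2.1) i.2.1)⟩
      have h5 : 2 ≤ Nat.card {t : G // orderOf t = 2 ∧ t ∈ Nn T} := two_le_ee h
      omega
    have hinv : ∀ j ∈ T, orderOf j = 2 → ∀ m ∈ M, j * m * j⁻¹ = m⁻¹ := by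
      intro j hj hjo m hm
      let f : M → M := fun x => ⟨(x : G)⁻¹ * (j * x * j⁻¹), mul_mem (inv_mem x.2) (hM.conj_mem _ x.2 j)⟩
      have hinj : Function.Injective f := by
        intro x y e
        have e' : (x : G)⁻¹ * (j * x * j⁻¹) = (y : G)⁻¹ * (j * y * j⁻¹) := congrArg Subtype.val e
        refine Subtype.ext (mul_inv_eq_one.mp (hMN _ (mul_mem y.2 (inv_mem x.2))
          (h.le (mem_A_of_commute h hj hjo ?_)))).symm
        calc (y : G) * (x : G)⁻¹ * j = y * ((x : G)⁻¹ * (j * x * j⁻¹)) * (j * (x : G)⁻¹) := by group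
          _ = y * ((y : G)⁻¹ * (j * y * j⁻¹)) * (j * (x : G)⁻¹) := by rw [e']
          _ = _ := by group
      obtain ⟨x, hx⟩ := Finite.injective_iff_surjective.mp hinj ⟨m, hm⟩
      have hx' : (x : G)⁻¹ * (j * x * j⁻¹) = m := congrArg Subtype.val hx
      have hj' := inv_eq_self_of_orderOf hjo
      rw [← hx', hj', mul_inv_rev, inv_inv, mul_inv_rev, mul_inv_rev, hj',
        show j * ((x : G)⁻¹ * (j * x * j)) * j = j * (x : G)⁻¹ * j * x * (j * j) by group,
        mul_self_eq_one_of_orderOf hjo, mul_one]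
      group
    obtain ⟨m, hm⟩ := htr.exists_smul_eq x₀ y₀
    have hm' : (m : G) • x₀ = y₀ := hm
    have hm1 : (m : G) ≠ 1 := fun e => hy₀ne (by rw [← hm', e, one_smul])
    refine hm1 (hMN m m.2 (cent_le h (mul_mem (h.T_le ht) (h.T_le hs))
      (fun e => hts (by rw [eq_inv_of_mul_eq_one_left e, inv_eq_self_of_orderOf hso])) ?_))
    have e1 := hinv t ht hto (m : G)⁻¹ (inv_mem m.2)
    rw [inv_inv] at e1
    have e2 := hinv s hs hso m m.2
    calc (m : G) * (t * s) = t * (m : G)⁻¹ * t⁻¹ * (t * s) := by rw [e1]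
      _ = t * ((m : G)⁻¹ * s) := by group
      _ = t * (s * m * s⁻¹ * s) := by rw [e2]
      _ = t * s * m := by group
  have hZ : Cfsg.IsZassenhausGroup G (G ⧸ Nn T) := ⟨hfaith, h2t, h3, hex, hnr⟩
  have hstab : MulAction.stabilizer G x₀ = Nn T := by
    ext g
    exact MulAction.mem_stabilizer_iff.trans (hfix₀ g)
  let P : ZassenhausDegree.Datum G (G ⧸ Nn T) :=
    ⟨hZ, x₀, y₀, hy₀ne.symm, Aa T, h.le.trans hstab.ge, hcard.symm,
      fun v hv hv1 c hc => by_contra fun hne => hv1 (hsemi v hv c hne hc)⟩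
  have hE : Nat.card P.E = ee T := by
    rw [← card_D h hu huH]
    exact Nat.card_congr (Equiv.subtypeEquivRight fun k => P.mem_E.trans (hD k))
  have hEo : Odd (Nat.card P.E) := by
    rw [hE, ← card_D h hu huH]
    exact D_odd h huH
  exact ⟨P, rfl, hE, hEo⟩

/-- The centraliser of the involutions is abelian, if its elements commute with their conjugates. -/
theorem comm (h : Hyp T) (hcc : ∀ x ∈ Aa T, ∀ m ∈ Nn T, x * (m * x * m⁻¹) = m * x * m⁻¹ * x)
    {a b : G} (ha : a ∈ Aa T) (hb : b ∈ Aa T) : a * b = b * a := by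
  by_contra hab
  classical
  obtain ⟨u, hu, huH⟩ := exists_u h
  haveI := Fintype.ofFinite G
  haveI := Fintype.ofFinite (G ⧸ Nn T)
  obtain ⟨P, hPH, hE, hEo⟩ := exists_datum h
  obtain ⟨s, hs, hso⟩ := exists_inv_mem h
  have heven : 2 ∣ Nat.card ↥(Aa T) := hso ▸ Subgroup.orderOf_dvd_natCard _ (h.T_le hs)
  by_cases hlt : Nat.card P.H - 1 ≤ 2 * Nat.card P.E
  · -- all non-identity elements are involutions
    rw [hE] at hlt
    replace hlt : Nat.card ↥(Aa T) - 1 ≤ 2 * ee T := hPH ▸ hlt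
    have hall : ∀ c ∈ Aa T, c * c = 1 := by
      intro c hc
      by_contra hcc
      have hc1 : c ≠ 1 := fun e => hcc (by rw [e, mul_one])
      let f : (↥(Dd T u) ⊕ ↥(Dd T u)) → {a : ↥(Aa T) // a ≠ 1} := Sum.elim
        (fun d => ⟨⟨(d : G) * s * (d : G)⁻¹, N_conj_A d.2.1 (h.T_le hs)⟩, fun e => by
          rw [conj_eq_one_iff.mp (congrArg Subtype.val e : (d : G) * s * (d : G)⁻¹ = 1), orderOf_one] at hso
          omega⟩)
        (fun d => ⟨⟨(d : G) * c * (d : G)⁻¹, N_conj_A d.2.1 hc⟩, fun e => hc1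
          (conj_eq_one_iff.mp (congrArg Subtype.val e : (d : G) * c * (d : G)⁻¹ = 1))⟩)
      have hinj : ∀ b ∈ Aa T, b ≠ 1 → ∀ d d' : ↥(Dd T u),
          (d : G) * b * (d : G)⁻¹ = (d' : G) * b * (d' : G)⁻¹ → d = d' := by
        intro b hb hb1 d d' e
        by_contra hne
        refine hb1 (fpf h hu huH hb (mul_mem (inv_mem d.2) d'.2) (fun e' => hne (Subtype.ext (inv_mul_eq_one.mp e'))) ?_)
        calc b * ((d : G)⁻¹ * d') = (d : G)⁻¹ * ((d : G) * b * (d : G)⁻¹) * d' := by group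
          _ = (d : G)⁻¹ * ((d' : G) * b * (d' : G)⁻¹) * d' := by rw [e]
          _ = _ := by group
      have hf : Function.Injective f := by
        rintro (d | d) (d' | d') e
        all_goals have e' := congrArg (fun a : {a : ↥(Aa T) // a ≠ 1} => ((a : ↥(Aa T)) : G)) e
        all_goals simp only [f, Sum.elim_inl, Sum.elim_inr] at e'
        · exact congrArg Sum.inl (hinj s (h.T_le hs) (fun e1 => by rw [e1, orderOf_one] at hso; omega) d d' e')
        · refine absurd ?_ hcc
          have : orderOf ((d' : G) * c * (d' : G)⁻¹) = 2 := by rw [← e', orderOf_conj, hso]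
          rw [orderOf_conj] at this
          exact mul_self_eq_one_of_orderOf this
        · refine absurd ?_ hcc
          have : orderOf ((d : G) * c * (d : G)⁻¹) = 2 := by rw [e', orderOf_conj, hso]
          rw [orderOf_conj] at this
          exact mul_self_eq_one_of_orderOf this
        · exact congrArg Sum.inr (hinj c hc hc1 d d' e')
      have h1 := Nat.card_le_card_of_injective f hf
      haveI := Fintype.ofFinite ↥(Aa T)
      rw [Nat.card_sum, card_D h hu huH, Nat.card_eq_fintype_card (α := {a : ↥(Aa T) // a ≠ 1}),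
        Fintype.card_subtype_compl, Fintype.card_subtype_eq, ← Nat.card_eq_fintype_card (α := ↥(Aa T))] at h1
      have h4 := two_le_ee h
      omega
    refine hab ?_
    calc a * b = (a * b) * ((b * a) * (b * a)) := by rw [hall _ (mul_mem hb ha), mul_one]
      _ = a * (b * b) * a * (b * a) := by group
      _ = b * a := by rw [hall b hb, mul_one, hall a ha, one_mul]
  · obtain ⟨hp, -, -⟩ := (P.feit hEo).resolve_left hlt
    obtain ⟨N, Q, hsimple, hmap, -⟩ := P.exists_simple
    rw [hPH] at hp hmap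
    have hmem : ∀ x : G, x ∈ Aa T → ∃ y : N, y ∈ Q.H ∧ (y : G) = x := fun x hx =>
      Subgroup.mem_map.mp (hmap.symm ▸ hx : x ∈ Q.H.map N.subtype)
    have hmem' : ∀ y : N, y ∈ Q.H → (y : G) ∈ Aa T := fun y hy => by
      have : (y : G) ∈ Q.H.map N.subtype := ⟨y, hy, rfl⟩
      rwa [hmap] at this
    haveI := Fintype.ofFinite N
    let S : SuzukiZT.Hyp N (G ⧸ Nn T) :=
      ⟨Q, hsimple, hp.of_equiv ((Q.H.equivMapOfInjective N.subtype N.subtype_injective).trans
          (MulEquiv.subgroupCongr hmap)).symm, by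
        obtain ⟨a', ha', ea⟩ := hmem a ha
        obtain ⟨b', hb', eb⟩ := hmem b hb
        exact ⟨a', ha', b', hb', fun e => hab (by rw [← ea, ← eb]; exact congrArg Subtype.val e)⟩⟩
    refine false_of_comm S fun x hx d hd => Subtype.ext (hcc x (hmem' x hx) d ?_)
    -- the two-point stabiliser normalises `T`
    by_contra hdN
    obtain ⟨s', hs', es⟩ := hmem s (h.T_le hs)
    have hd' : (d : G) * s * (d : G)⁻¹ ∈ Aa T := by
      have := hmem' _ (Q.conj_mem hd.1 hs')
      rwa [Subgroup.coe_mul, Subgroup.coe_mul, Subgroup.coe_inv, es] at this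
    have h1 := h.ti _ hd' d hdN (by
      rw [show (d : G)⁻¹ * ((d : G) * s * (d : G)⁻¹) * d = s by group]; exact h.T_le hs)
    rw [conj_eq_one_iff.mp h1, orderOf_one] at hso
    omega

end CfsgLib.CentTI
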