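import Cfsg.Prelude.Def_OddOrderLocal
import Cfsg.Agent.Lib.Solvable.CN
import Cfsg.Agent.Lib.Frobenius.Complement
import Cfsg.Agent.Lib.OddLocal.FittingHall
import Mathlib.GroupTheory.SpecificGroups.ZGroup

/-!
Groups in which the centraliser of every element is a trivial intersection subgroup: nilpotency of
centralisers and the Frobenius case.
-/

set_option autoImplicit false
set_option linter.unusedSectionVars false
set_option linter.style.haveILetI false

namespace CfsgLib.CentTI

open Cfsg Subgroup

variable {G : Type*} [Group G] [Finite G]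

/-- The centraliser of every element is a trivial intersection subgroup. -/
abbrev AllTI (G : Type*) [Group G] : Prop :=
  ∀ x : G, Cfsg.IsTISubset (Subgroup.centralizer ({x} : Set G) : Set G)

/-- An element moving a non-trivial element of a centraliser into it normalises it. -/
theorem mem_normalizer_of_conj (hTI : AllTI G) {x y g : G} (hy : y * x = x * y) (hy1 : y ≠ 1)
    (hgy : g * y * g⁻¹ * x = x * (g * y * g⁻¹)) :
    g ∈ Subgroup.normalizer (centralizer ({x} : Set G) : Set G) := by
  by_contra hg
  exact hy1 (hTI x g hg y (mem_centralizer_singleton_iff.mpr hy) (mem_centralizer_singleton_iff.mpr hgy))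

/-- A centraliser containing a non-trivial element together with all its conjugates is normal. -/
theorem centralizer_normal (hTI : AllTI G) {x y : G} (hy1 : y ≠ 1)
    (hall : ∀ g : G, g * y * g⁻¹ * x = x * (g * y * g⁻¹)) : (centralizer ({x} : Set G)).Normal := by
  refine Subgroup.normalizer_eq_top_iff.mp ((Subgroup.eq_top_iff' _).mpr fun g => ?_)
  exact mem_normalizer_of_conj hTI (by simpa using hall 1) hy1 (hall g)

theorem allTI_subgroup (hTI : AllTI G) (K : Subgroup G) : AllTI K := by
  intro x g hg y hy hgy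
  have hy' : (y : G) * x = x * y := congrArg Subtype.val (mem_centralizer_singleton_iff.mp hy)
  have hgy' : (g : G) * y * (g : G)⁻¹ * x = x * ((g : G) * y * (g : G)⁻¹) :=
    congrArg Subtype.val (mem_centralizer_singleton_iff.mp hgy)
  by_contra hy1
  refine hg (Subgroup.mem_normalizer_iff.mpr fun z => ?_)
  have h := Subgroup.mem_normalizer_iff.mp
    (mem_normalizer_of_conj hTI hy' (fun e => hy1 (Subtype.ext e)) hgy') z
  simp only [SetLike.mem_coe, mem_centralizer_singleton_iff] at h ⊢
  exact ⟨fun e => Subtype.ext (h.mp (congrArg Subtype.val e)), fun e => Subtype.ext (h.mpr (congrArg Subtype.val e))⟩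

/-- With a non-trivial centre all centralisers are normal. -/
theorem centralizer_normal_of_center (hTI : AllTI G) (hZ : center G ≠ ⊥) (x : G) :
    (centralizer ({x} : Set G)).Normal := by
  obtain ⟨z, hz, hz1⟩ := (bot_or_exists_ne_one _).resolve_left hZ
  refine centralizer_normal hTI hz1 fun g => ?_
  rw [mem_center_iff.mp hz g, mul_inv_cancel_right]
  exact (mem_center_iff.mp hz x).symm

/-- With a non-trivial centre the group is nilpotent. -/
theorem nilpotent_of_center (hTI : AllTI G) (hZ : center G ≠ ⊥) : Group.IsNilpotent G := by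
  have key : ∀ x : G, x ∈ fittingSubgroup G := by
    intro x
    haveI := centralizer_normal_of_center hTI hZ x
    set A := (center ↥(centralizer ({x} : Set G))).map (centralizer ({x} : Set G)).subtype with hA
    haveI : A.Normal := inferInstance
    haveI : Group.IsNilpotent ↥(center ↥(centralizer ({x} : Set G))) :=
      @CommGroup.isNilpotent _ { (center ↥(centralizer ({x} : Set G))).toGroup with
        mul_comm := fun a b => Subtype.ext (mem_center_iff.mp b.2 a) }
    haveI hAn : Group.IsNilpotent A :=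
      Group.nilpotent_of_mulEquiv ((center ↥(centralizer ({x} : Set G))).equivMapOfInjective _ (Subgroup.subtype_injective _))
    refine CfsgLib.le_fittingSubgroup hAn ⟨⟨x, mem_centralizer_singleton_iff.mpr rfl⟩, ?_, rfl⟩
    exact mem_center_iff.mpr fun g => Subtype.ext (mem_centralizer_singleton_iff.mp g.2)
  haveI : Group.IsNilpotent (⊤ : Subgroup G) :=
    ((Subgroup.eq_top_iff' _).mpr key : fittingSubgroup G = ⊤) ▸ CfsgLib.isNilpotent_fittingSubgroup
  exact Group.nilpotent_of_mulEquiv (Subgroup.topEquiv : (⊤ : Subgroup G) ≃* G)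

theorem isCN (hTI : AllTI G) : IsCNGroup G := fun x hx =>
  nilpotent_of_center (allTI_subgroup hTI _) fun e => hx (by
    have hm : (⟨x, mem_centralizer_singleton_iff.mpr rfl⟩ : centralizer ({x} : Set G)) ∈
        center ↥(centralizer ({x} : Set G)) :=
      mem_center_iff.mpr fun g => Subtype.ext (mem_centralizer_singleton_iff.mp g.2)
    rw [e, Subgroup.mem_bot] at hm
    exact congrArg Subtype.val hm)

/-- With non-trivial Fitting subgroup the latter contains the centralisers of its non-trivial elements. -/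
theorem cent_le_fitting (hTI : AllTI G) (hF : fittingSubgroup G ≠ ⊥) {y : G}
    (hy : y ∈ fittingSubgroup G) (hy1 : y ≠ 1) : centralizer ({y} : Set G) ≤ fittingSubgroup G := by
  set K := fittingSubgroup G with hK
  haveI : Group.IsNilpotent K := CfsgLib.isNilpotent_fittingSubgroup
  haveI : Nontrivial K := (nontrivial_iff_ne_bot K).mpr hF
  have h2 := CfsgLib.inf_center_ne_bot_of_nilpotent (G := K) (N := ⊤) bot_lt_top.ne'
  rw [top_inf_eq] at h2
  obtain ⟨z, hz, hz1⟩ := (bot_or_exists_ne_one _).resolve_left h2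
  set Z := (center K).map K.subtype with hZ
  haveI : Z.Normal := inferInstance
  have hzz : ∀ w ∈ Z, ∀ k ∈ K, w * k = k * w := by
    rintro _ ⟨w, hw, rfl⟩ k hk
    exact (congrArg Subtype.val (mem_center_iff.mp hw ⟨k, hk⟩)).symm
  haveI : (centralizer ({y} : Set G)).Normal := centralizer_normal hTI
    (show (z : G) ≠ 1 from fun e => hz1 (Subtype.ext e))
    fun g => hzz _ (Subgroup.Normal.conj_mem ‹Z.Normal› _ ⟨z, hz, rfl⟩ g) y hy
  exact CfsgLib.le_fittingSubgroup (isCN hTI y hy1)

theorem fitting_coprime (hTI : AllTI G) (hF : fittingSubgroup G ≠ ⊥) :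
    (Nat.card (fittingSubgroup G)).Coprime (fittingSubgroup G).index := by
  set K := fittingSubgroup G with hK
  refine Nat.coprime_of_dvd fun p hp h1 h2 => ?_
  haveI := Fact.mk hp
  obtain ⟨⟨v, hvK⟩, hv⟩ := exists_prime_orderOf_dvd_card' (G := K) p h1
  rw [Subgroup.orderOf_mk] at hv
  have hv1 : v ≠ 1 := fun e => hp.ne_one (by rw [← hv, e, orderOf_one])
  obtain ⟨S, hS⟩ := (IsPGroup.of_card (n := 1) (by rw [Nat.card_zpowers, hv, pow_one]) :
    IsPGroup p ↥(zpowers v)).exists_le_sylow
  haveI : Group.IsNilpotent (S : Subgroup G) := S.2.isNilpotent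
  obtain ⟨⟨z, hzS⟩, ⟨hzK, hzc⟩, hz1⟩ := (bot_or_exists_ne_one _).resolve_left
    (CfsgLib.inf_center_ne_bot_of_nilpotent (G := (S : Subgroup G)) (N := K.subgroupOf (S : Subgroup G))
      fun e => hv1 (by
        have hm : (⟨v, hS (mem_zpowers v)⟩ : (S : Subgroup G)) ∈ K.subgroupOf (S : Subgroup G) := hvK
        rw [e, Subgroup.mem_bot] at hm
        exact congrArg Subtype.val hm))
  have hSK : (S : Subgroup G) ≤ K := fun s hs =>
    cent_le_fitting hTI hF (y := z) hzK (fun e => hz1 (Subtype.ext e))
      (mem_centralizer_singleton_iff.mpr (congrArg Subtype.val (mem_center_iff.mp hzc ⟨s, hs⟩)))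
  exact S.not_dvd_index (h2.trans (Subgroup.index_dvd_of_le hSK))

/-- An element of the complement centralised by all of it. -/
theorem exists_central {V E : Subgroup G} [IsMulCommutative V] (hV : V ≠ ⊥) (hE : E ≠ ⊥)
    (hEV : E ≤ normalizer (V : Set G)) (hfpf : ∀ x ∈ E, x ≠ 1 → V ⊓ centralizer {x} = ⊥) :
    center E ≠ ⊥ := by
  rcases Nat.even_or_odd (Nat.card E) with hev | hodd
  swap
  · exact CfsgLib.Frob.center_ne_bot_of_odd hV hEV hfpf hodd hE
  have : Fact (Nat.Prime 2) := ⟨Nat.prime_two⟩
  obtain ⟨⟨t, htE⟩, ht⟩ := exists_prime_orderOf_dvd_card' (G := E) 2 (even_iff_two_dvd.mp hev)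
  rw [Subgroup.orderOf_mk] at ht
  have hinv : ∀ s ∈ E, orderOf s = 2 → ∀ v ∈ V, s * v * s = v⁻¹ := by
    intro s hs hso v hv
    have hs1 : s ≠ 1 := fun e => by simp [e] at hso
    have h1 := CfsgLib.Frob.fpf_pow_eq_one (hEV hs) (p := 2) (hso ▸ pow_orderOf_eq_one s) (hfpf s hs hs1) hv
    rw [pow_two] at h1
    rw [eq_inv_iff_mul_eq_one]
    calc s * v * s * v = v⁻¹ * ((v * s) * (v * s)) * v := by group
      _ = 1 := by rw [h1]; group
  have hm : (⟨t, htE⟩ : E) ∈ center E := mem_center_iff.mpr fun ⟨g, hg⟩ => Subtype.ext (by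
    show g * t = t * g
    set s := g * t * g⁻¹ with hs
    have hsE : s ∈ E := E.mul_mem (E.mul_mem hg htE) (E.inv_mem hg)
    have hso : orderOf s = 2 := by rw [← ht]; exact (MulAut.conj g).orderOf_eq t
    have htt : t * t = 1 := by rw [← pow_two, ← ht]; exact pow_orderOf_eq_one t
    have hst : s * t = 1 := by
      by_contra hne
      obtain ⟨v, hvV, hv1⟩ := (bot_or_exists_ne_one V).resolve_left hV
      apply hv1
      have hmem : v ∈ V ⊓ centralizer ({s * t} : Set G) := by
        refine Subgroup.mem_inf.mpr ⟨hvV, mem_centralizer_singleton_iff.mpr ?_⟩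
        have a1 := hinv t htE ht v hvV
        have a2 := hinv s hsE hso v⁻¹ (V.inv_mem hvV)
        rw [inv_inv] at a2
        have hss : s * s = 1 := by rw [← pow_two, ← hso]; exact pow_orderOf_eq_one s
        have a3 : s * (t * v * t) * s = v := by rw [a1, a2]
        calc v * (s * t) = s * (t * v * t) * s * (s * t) := by rw [a3]
          _ = s * t * v * (t * (s * s) * t) := by group
          _ = s * t * v := by rw [hss, mul_one, htt, mul_one]
      rwa [hfpf _ (E.mul_mem hsE htE) hne, Subgroup.mem_bot] at hmem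
    have h3 : s = t := mul_right_cancel (hst.trans htt.symm)
    calc g * t = s * g := by rw [hs]; group
      _ = t * g := by rw [h3])
  intro e
  rw [e, Subgroup.mem_bot] at hm
  rw [show t = 1 from congrArg Subtype.val hm, orderOf_one] at ht
  omega

/-- A generalised quaternion group whose centralisers are normal has order at most eight. -/
theorem quaternion_le_one {n : ℕ} {P : Type*} [Group P] (e : P ≃* QuaternionGroup (2 ^ n))
    (h : ∀ x : P, (centralizer ({x} : Set P)).Normal) : n ≤ 1 := by
  have hm := (h (e.symm (QuaternionGroup.xa 0))).conj_mem _ (mem_centralizer_singleton_iff.mpr rfl)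
    (e.symm (QuaternionGroup.a 1))
  rw [mem_centralizer_singleton_iff] at hm
  have hm' := congrArg e hm
  simp only [map_mul, map_inv, MulEquiv.apply_symm_apply] at hm'
  have hinv : (QuaternionGroup.a 1 : QuaternionGroup (2 ^ n))⁻¹ = QuaternionGroup.a (-1) :=
    inv_eq_of_mul_eq_one_right (by rw [QuaternionGroup.a_mul_a, add_neg_cancel, QuaternionGroup.one_def])
  rw [hinv, QuaternionGroup.a_mul_xa, QuaternionGroup.xa_mul_a, QuaternionGroup.xa_mul_xa,
    QuaternionGroup.xa_mul_xa, QuaternionGroup.a.injEq] at hm'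
  have h4 : ((4 : ℕ) : ZMod (2 * 2 ^ n)) = 0 := by
    push_cast
    linear_combination hm'
  rw [ZMod.natCast_eq_zero_iff] at h4
  by_contra hn
  have := Nat.le_of_dvd (by norm_num) h4
  have h8 : (2 : ℕ) ^ 2 ≤ 2 ^ n := Nat.pow_le_pow_right (by norm_num) (by omega)
  omega

/-- The shape of the complement. -/
theorem complement_shape (hTI : AllTI G) {V E : Subgroup G} [IsMulCommutative V] (hV : V ≠ ⊥) (hE : E ≠ ⊥)
    (hEV : E ≤ normalizer (V : Set G)) (hfpf : ∀ x ∈ E, x ≠ 1 → V ⊓ centralizer {x} = ⊥) :
    IsCyclic E ∨ ∃ m : ℕ, Odd m ∧ Nonempty (E ≃* Multiplicative (ZMod m) × QuaternionGroup 2) := by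
  haveI : Fact (Nat.Prime 2) := ⟨Nat.prime_two⟩
  haveI hnil : Group.IsNilpotent E := nilpotent_of_center (allTI_subgroup hTI E) (exists_central hV hE hEV hfpf)
  obtain ⟨T⟩ : Nonempty (Sylow 2 E) := inferInstance
  haveI hTn : (T : Subgroup E).Normal :=
    (Group.isNilpotent_of_finite_tfae (G := E)).out 0 3 rfl rfl |>.mp hnil 2 inferInstance _
  obtain ⟨O, hO⟩ := Subgroup.exists_right_complement'_of_coprime
    (N := (T : Subgroup E)) T.card_coprime_index
  have hOodd : Odd (Nat.card O) := by
    rw [← hO.symm.index_eq_card, Nat.odd_iff, ← Nat.two_dvd_ne_zero]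
    exact T.not_dvd_index
  have hcop : (Nat.card O).Coprime (Nat.card T) := by
    obtain ⟨k, hk⟩ := IsPGroup.iff_card.mp T.2
    rw [hk]
    exact (Nat.coprime_two_right.mpr hOodd).pow_right k
  have hcomm : ∀ (o : O) (t : (T : Subgroup E)), Commute (o : E) t := fun o t =>
    CfsgLib.Frob.commute_of_nilpotent_coprime
      ((hcop.coprime_dvd_left (O.orderOf_dvd_natCard o.2)).coprime_dvd_right ((T : Subgroup E).orderOf_dvd_natCard t.2))
  let f : O × (T : Subgroup E) →* E := MonoidHom.noncommCoprod O.subtype (T : Subgroup E).subtype hcomm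
  have hf : Function.Bijective f := hO.symm
  let eE : E ≃* O × (T : Subgroup E) := (MulEquiv.ofBijective f hf).symm
  haveI hZO : IsZGroup O := ⟨fun p hp P => by
    haveI := Fact.mk hp
    set A := O.map E.subtype with hA
    have hAE : A ≤ E := map_subtype_le _
    let eA : O ≃* A := O.equivMapOfInjective _ E.subtype_injective
    let P' : Sylow p A := P.mapSurjective (f := eA.toMonoidHom) eA.surjective
    have eP : (P : Subgroup O) ≃* (P' : Subgroup A) :=
      (P : Subgroup O).equivMapOfInjective eA.toMonoidHom eA.injective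
    rcases CfsgLib.Frob.sylow_cyclic_or_quaternion hV (hAE.trans hEV) (fun x hx => hfpf x (hAE hx)) P' with hc | ⟨n, ⟨e⟩⟩
    · exact isCyclic_of_surjective eP.symm eP.symm.surjective
    · exfalso
      have h := (P : Subgroup O).card_subgroup_dvd_card
      rw [Nat.card_congr (eP.trans e).toEquiv, Nat.card_eq_fintype_card, QuaternionGroup.card] at h
      exact Nat.not_even_iff_odd.mpr hOodd (even_iff_two_dvd.mpr (dvd_trans ⟨2 * 2 ^ n, by ring⟩ h))⟩
  haveI : IsCyclic O := inferInstance
  let A := (T : Subgroup E).map E.subtype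
  have hAE : A ≤ E := map_subtype_le _
  let eA : (T : Subgroup E) ≃* A := (T : Subgroup E).equivMapOfInjective _ E.subtype_injective
  have hA2 : IsPGroup 2 A := T.2.map _
  obtain ⟨PA, hPA⟩ : ∃ PA : Sylow 2 A, (PA : Subgroup A) = ⊤ := by
    obtain ⟨P⟩ : Nonempty (Sylow 2 A) := inferInstance
    exact ⟨P, (P.3 (hA2.to_subgroup ⊤) le_top).symm⟩
  have eP : (PA : Subgroup A) ≃* (T : Subgroup E) :=
    (MulEquiv.subgroupCongr hPA).trans (Subgroup.topEquiv.trans eA.symm)
  rcases CfsgLib.Frob.sylow_cyclic_or_quaternion hV (hAE.trans hEV) (fun x hx => hfpf x (hAE hx)) PA with hc | ⟨n, ⟨e⟩⟩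
  · left
    haveI : IsCyclic (T : Subgroup E) := isCyclic_of_surjective eP eP.surjective
    haveI : IsCyclic (O × (T : Subgroup E)) := Group.isCyclic_prod_iff.mpr ⟨inferInstance, inferInstance, hcop⟩
    exact isCyclic_of_surjective eE.symm eE.symm.surjective
  · have eT : (T : Subgroup E) ≃* QuaternionGroup (2 ^ n) := eP.symm.trans e
    haveI : Nontrivial (T : Subgroup E) := eT.toEquiv.nontrivial
    haveI : Nontrivial (center ↥(T : Subgroup E)) := T.2.center_nontrivial
    have hn : n ≤ 1 := quaternion_le_one eT (centralizer_normal_of_center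
      (allTI_subgroup (allTI_subgroup hTI E) _) ((nontrivial_iff_ne_bot _).mp inferInstance))
    interval_cases n
    · left
      haveI : IsCyclic (QuaternionGroup (2 ^ 0)) := QuaternionGroup.quaternionGroup_one_isCyclic
      haveI : IsCyclic (T : Subgroup E) := isCyclic_of_surjective eT.symm eT.symm.surjective
      haveI : IsCyclic (O × (T : Subgroup E)) := Group.isCyclic_prod_iff.mpr ⟨inferInstance, inferInstance, hcop⟩
      exact isCyclic_of_surjective eE.symm eE.symm.surjective
    · right
      exact ⟨Nat.card O, hOodd, ⟨eE.trans ((zmodCyclicMulEquiv inferInstance).symm.prodCongr eT)⟩⟩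

/-- With non-trivial Fitting subgroup the group is nilpotent or a Frobenius group of the stated shape. -/
theorem frobenius_case (hTI : AllTI G) (hF : fittingSubgroup G ≠ ⊥) (hnil : ¬ Group.IsNilpotent G) :
    ∃ H : Subgroup G, Cfsg.IsFrobeniusComplement H ∧
      (IsCyclic H ∨ ∃ m : ℕ, Odd m ∧ Nonempty (H ≃* Multiplicative (ZMod m) × QuaternionGroup 2)) := by
  obtain ⟨E, hE⟩ := Subgroup.exists_right_complement'_of_coprime (fitting_coprime hTI hF)
  have hE1 : E ≠ ⊥ := fun e => hnil <| by
    rw [e, Subgroup.isComplement'_bot_right] at hE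
    haveI : Group.IsNilpotent (⊤ : Subgroup G) := hE ▸ CfsgLib.isNilpotent_fittingSubgroup
    exact Group.nilpotent_of_mulEquiv (Subgroup.topEquiv : (⊤ : Subgroup G) ≃* G)
  have hfpf : ∀ e ∈ E, e ≠ 1 → fittingSubgroup G ⊓ centralizer ({e} : Set G) = ⊥ := by
    intro e he he1
    rw [Subgroup.eq_bot_iff_forall]
    intro k hk
    by_contra hk1
    have := cent_le_fitting hTI hF hk.1 hk1
      (mem_centralizer_singleton_iff.mpr (mem_centralizer_singleton_iff.mp hk.2).symm)
    exact he1 (Subgroup.disjoint_def.mp hE.disjoint this he)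
  obtain ⟨V, hVc, hV1, hVn, hVf⟩ := CfsgLib.Frob.exists_abelian_module hE hF hE1 hfpf
  haveI := hVc
  exact ⟨E, CfsgLib.Frob.frob_of_fpf hE hF hE1 hfpf, complement_shape hTI hV1 hE1 hVn hVf⟩

/-- A non-trivial solvable group has non-trivial Fitting subgroup. -/
theorem not_solvable (hF : fittingSubgroup G = ⊥) [Nontrivial G] : ¬ Group.IsSolvable G := by
  intro hs
  classical
  obtain ⟨n, hn⟩ := Group.IsSolvable.solvable (G := G)
  have hex : ∃ n, derivedSeries G n = ⊥ := ⟨n, hn⟩
  set m := Nat.find hex with hm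
  have hm0 : m ≠ 0 := fun e => by
    have := Nat.find_spec hex
    rw [← hm, e, derivedSeries_zero] at this
    exact top_ne_bot this
  obtain ⟨k, hk⟩ : ∃ k, m = k + 1 := ⟨m - 1, by omega⟩
  have hspec := Nat.find_spec hex
  rw [← hm, hk, derivedSeries_succ] at hspec
  haveI : IsMulCommutative (derivedSeries G k) := ⟨⟨fun a b => Subtype.ext
    (commutatorElement_eq_one_iff_mul_comm.mp (Subgroup.mem_bot.mp (hspec ▸ commutator_mem_commutator a.2 b.2)))⟩⟩
  letI : CommGroup (derivedSeries G k) :=
    { (inferInstance : Group (derivedSeries G k)) with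
      mul_comm := fun a b => IsMulCommutative.is_comm.comm a b }
  have hle := CfsgLib.le_fittingSubgroup (N := derivedSeries G k) CommGroup.isNilpotent
  rw [hF, le_bot_iff] at hle
  exact Nat.find_min hex (show k < m by omega) hle

end CfsgLib.CentTI
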