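import Cfsg.Agent.Lib.CentTI.Hyp
import Cfsg.Agent.Lib.BSW.GroupLemmas
import Mathlib.GroupTheory.Perm.Cycle.Type
import Mathlib.Tactic.Linarith
import Mathlib.Tactic.Ring

/-!
A nilpotent trivial intersection centraliser of the involutions of a strongly embedded subgroup: the
permutation representation on the cosets of its normaliser.
-/

set_option autoImplicit false
set_option linter.unusedSectionVars false

namespace CfsgLib.CentTI

open Cfsg Subgroup
open CfsgLib.Involutions (mul_self_eq_one_of_orderOf inv_eq_self_of_orderOf orderOf_conj)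

variable {G : Type*} [Group G] [Finite G] {T : Sylow 2 G}

theorem mem_Dd {u x : G} (hu : orderOf u = 2) (h1 : x ∈ Nn T) (h2 : u * x * u ∈ Nn T) : x ∈ Dd T u :=
  Subgroup.mem_inf.mpr ⟨h1, u * x * u, h2, by
    show u * (u * x * u) * u⁻¹ = x
    rw [inv_eq_self_of_orderOf hu, show u * (u * x * u) * u = (u * u) * x * (u * u) by group,
      mul_self_eq_one_of_orderOf hu, one_mul, mul_one]⟩

theorem conj_mem_of_Dd {u x : G} (hu : orderOf u = 2) (h : x ∈ Dd T u) : u * x * u ∈ Nn T := by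
  obtain ⟨y, hy, e⟩ := h.2
  have e' : u * y * u⁻¹ = x := e
  rw [inv_eq_self_of_orderOf hu] at e'
  rwa [← e', show u * (u * y * u) * u = (u * u) * y * (u * u) by group,
    mul_self_eq_one_of_orderOf hu, one_mul, mul_one]

variable {u : G}

theorem D_odd (h : Hyp T) (huH : u ∉ Nn T) : Odd (Nat.card ↥(Dd T u)) := (se h).2.2 u huH

theorem D_orderOf_odd (h : Hyp T) (huH : u ∉ Nn T) {d : G} (hd : d ∈ Dd T u) : Odd (orderOf d) :=
  (D_odd h huH).of_dvd_nat (Subgroup.orderOf_dvd_natCard (Dd T u) hd)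

/-- `C(T)` meets no conjugate of `N` outside: the case of an involution. -/
theorem c1u (h : Hyp T) (hu : orderOf u = 2) (huH : u ∉ Nn T) {b : G} (hb : b ∈ Aa T)
    (hbu : u * b * u ∈ Nn T) : b = 1 := by
  have hu' := inv_eq_self_of_orderOf hu
  have hu2 := mul_self_eq_one_of_orderOf hu
  by_contra hb1
  set x := u * b * u with hx
  have hxu : u * x * u = b := by
    rw [hx, show u * (u * b * u) * u = (u * u) * b * (u * u) by group, hu2, one_mul, mul_one]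
  have hy1 : b * (x * b⁻¹ * x⁻¹) ∈ Aa T := mul_mem hb (N_conj_A hbu (inv_mem hb))
  have hy2 : u⁻¹ * (b * (x * b⁻¹ * x⁻¹)) * u ∈ Aa T := by
    have e : u⁻¹ * (b * (x * b⁻¹ * x⁻¹)) * u = x * b * x⁻¹ * b⁻¹ := by
      calc u⁻¹ * (b * (x * b⁻¹ * x⁻¹)) * u
          = (u⁻¹ * b * u) * (u⁻¹ * x * u) * (u⁻¹ * b * u)⁻¹ * (u⁻¹ * x * u)⁻¹ := by group
        _ = _ := by rw [hu', hxu, ← hx]
    rw [e]
    exact mul_mem (N_conj_A hbu hb) (inv_mem hb)
  have hc : b * x = x * b := by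
    have := A_ti h hy1 huH hy2
    calc b * x = b * (x * b⁻¹ * x⁻¹) * (x * b) := by group
      _ = x * b := by rw [this, one_mul]
  have hxA : x ∉ Aa T := fun hm => hb1 (A_ti h hb huH (by rwa [hu']))
  have hz : u * (b * x) * u = b * x := by
    calc u * (b * x) * u = (u * b * u) * (u * x * u) := by
          rw [show (u * b * u) * (u * x * u) = u * b * (u * u) * x * u by group, hu2]; group
      _ = x * b := by rw [← hx, hxu]
      _ = b * x := hc.symm
  have hz1 : b * x ≠ 1 := fun e => hxA (by rw [eq_inv_of_mul_eq_one_right e]; exact inv_mem hb)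
  have hbD : b ∈ Dd T u := mem_Dd hu (h.le hb) hbu
  have hxD : x ∈ Dd T u := mem_Dd hu hbu (by rw [hxu]; exact h.le hb)
  obtain ⟨g, hg⟩ := exists_conj_T h hu
  have hzA : g⁻¹ * (b * x) * g ∈ Aa T := by
    have hgo : orderOf (g⁻¹ * u * g) = 2 := by
      have := orderOf_conj g⁻¹ u
      rw [inv_inv] at this
      rw [this, hu]
    refine mem_A_of_commute h hg hgo ?_
    calc g⁻¹ * (b * x) * g * (g⁻¹ * u * g) = g⁻¹ * ((b * x) * u) * g := by group
      _ = g⁻¹ * (u * (b * x) * u * u) * g := by rw [hz]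
      _ = g⁻¹ * (u * (b * x) * (u * u)) * g := by group
      _ = g⁻¹ * u * g * (g⁻¹ * (b * x) * g) := by rw [hu2]; group
  have hzg : g⁻¹ * (b * x) * g ≠ 1 := fun e => hz1 (by
    calc b * x = g * (g⁻¹ * (b * x) * g) * g⁻¹ := by group
      _ = 1 := by rw [e]; group)
  have key : ∀ y : G, y * (b * x) = b * x * y → g⁻¹ * y * g ∈ Nn T := fun y hy => cent_le h hzA hzg (by
    calc g⁻¹ * y * g * (g⁻¹ * (b * x) * g) = g⁻¹ * (y * (b * x)) * g := by group
      _ = g⁻¹ * (b * x * y) * g := by rw [hy]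
      _ = _ := by group)
  have hb' := key b (by rw [mul_assoc b x b, ← hc])
  have hx' := key x ((show Commute x b from hc.symm).mul_right (Commute.refl x)).eq
  have hj : b * x⁻¹ = 1 := by
    refine no_inverting_conj (g := g) (j := u) (h.le (h.T_le hg)) hu ?_
      (D_orderOf_odd h huH (mul_mem hbD (inv_mem hxD))) ?_
    · rw [show g⁻¹ * (b * x⁻¹) * g = g⁻¹ * b * g * (g⁻¹ * x * g)⁻¹ by group]
      exact mul_mem hb' (inv_mem hx')
    · calc u * (b * x⁻¹) * u⁻¹ = (u * b * u⁻¹) * (u * x * u⁻¹)⁻¹ := by group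
        _ = x * b⁻¹ := by rw [hu', hxu, ← hx]
        _ = _ := by group
  exact hxA (mul_inv_eq_one.mp hj ▸ hb)

theorem exists_inv_coset (h : Hyp T) (g : G) : ∃ v : G, orderOf v = 2 ∧ (v : G ⧸ Nn T) = (g : G ⧸ Nn T) := by
  by_contra hne
  push Not at hne
  haveI : IsEmpty {i : G // orderOf i = 2 ∧ (i : G ⧸ Nn T) = (g : G ⧸ Nn T)} := ⟨fun i => hne i i.2.1 i.2.2⟩
  have h1 := StrongEmb.card_coset_involutions (se h) (g : G ⧸ Nn T)
  rw [Nat.card_of_isEmpty] at h1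
  have h3 : 2 ≤ Nat.card {t : G // orderOf t = 2 ∧ t ∈ Nn T} := two_le_ee h
  omega

/-- `C(T)` meets no conjugate of `N` outside. -/
theorem c1 (h : Hyp T) {b g : G} (hb : b ∈ Aa T) (hg : g ∉ Nn T) (hbg : g⁻¹ * b * g ∈ Nn T) :
    b = 1 := by
  obtain ⟨v, hv, hvg⟩ := exists_inv_coset h g
  have hn := QuotientGroup.eq.mp hvg
  have hvH : v ∉ Nn T := fun hm => hg (by simpa using mul_mem hm hn)
  refine c1u h hv hvH hb ?_
  have e : v * b * v = (v⁻¹ * g) * (g⁻¹ * b * g) * (v⁻¹ * g)⁻¹ := by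
    rw [inv_eq_self_of_orderOf hv, mul_inv_rev, inv_eq_self_of_orderOf hv]
    group
  rw [e]
  exact mul_mem (mul_mem hn hbg) (inv_mem hn)

theorem D_inf_A (h : Hyp T) (hu : orderOf u = 2) (huH : u ∉ Nn T) {x : G} (hx : x ∈ Aa T)
    (hxd : x ∈ Dd T u) : x = 1 :=
  c1u h hu huH hx (conj_mem_of_Dd hu hxd)

theorem D_act_inj (h : Hyp T) (hu : orderOf u = 2) (huH : u ∉ Nn T) {s a b : G} (hs : s ∈ T)
    (hso : orderOf s = 2) (ha : a ∈ Dd T u) (hb : b ∈ Dd T u) (e : a * s * a⁻¹ = b * s * b⁻¹) : a = b := by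
  refine inv_mul_eq_one.mp (D_inf_A h hu huH (mem_A_of_commute h hs hso ?_) (mul_mem (inv_mem ha) hb))
  calc a⁻¹ * b * s = a⁻¹ * (b * s * b⁻¹) * b := by group
    _ = a⁻¹ * (a * s * a⁻¹) * b := by rw [e]
    _ = _ := by group

theorem card_D (h : Hyp T) (hu : orderOf u = 2) (huH : u ∉ Nn T) :
    Nat.card ↥(Dd T u) = ee T := by
  obtain ⟨s, hs, hso⟩ := exists_inv_mem h
  refine Nat.card_eq_of_bijective (fun d => ⟨(d : G) * s * (d : G)⁻¹, by rw [orderOf_conj, hso],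
    mul_mem (mul_mem d.2.1 (Subgroup.le_normalizer hs)) (inv_mem d.2.1)⟩) ⟨?_, ?_⟩
  · intro a b e
    exact Subtype.ext (D_act_inj h hu huH hs hso a.2 b.2 (congrArg Subtype.val e))
  · rintro ⟨t, ht, htH⟩
    obtain ⟨d, hd, e⟩ := StrongEmb.exists_conj_in_inter (se h) hu huH (Subgroup.le_normalizer hs) hso htH ht
    exact ⟨⟨d, hd⟩, Subtype.ext e⟩

theorem inverts (h : Hyp T) (hu : orderOf u = 2) (huH : u ∉ Nn T) :
    ∀ d ∈ Dd T u, u * d * u⁻¹ = d⁻¹ := by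
  have hu' := inv_eq_self_of_orderOf hu
  have hu2 := mul_self_eq_one_of_orderOf hu
  have key : ∀ i : {i : G // orderOf i = 2 ∧ (i : G ⧸ Nn T) = (u : G ⧸ Nn T)},
      u * (i : G) ∈ Dd T u ∧ u * (u * (i : G)) * u⁻¹ = (u * (i : G))⁻¹ := by
    intro i
    have hinv : u * (u * (i : G)) * u⁻¹ = (u * (i : G))⁻¹ := by
      rw [mul_inv_rev, inv_eq_self_of_orderOf i.2.1, hu', ← mul_assoc u u, hu2, one_mul]
    have hH : u * (i : G) ∈ Nn T := by
      have := QuotientGroup.eq.mp i.2.2.symm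
      rwa [hu'] at this
    refine ⟨mem_Dd hu hH ?_, hinv⟩
    have := inv_mem hH
    rwa [← hinv, hu'] at this
  have hbij : Function.Bijective (fun i : {i : G // orderOf i = 2 ∧ (i : G ⧸ Nn T) = (u : G ⧸ Nn T)} =>
      (⟨u * (i : G), (key i).1⟩ : ↥(Dd T u))) := by
    refine (Nat.bijective_iff_injective_and_card _).mpr
      ⟨fun a b e => Subtype.ext (mul_left_cancel (congrArg Subtype.val e)), ?_⟩
    rw [StrongEmb.card_coset_involutions (se h) (u : G ⧸ Nn T), card_D h hu huH]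
  intro d hd
  obtain ⟨i, e⟩ := hbij.2 ⟨d, hd⟩
  have e' : u * (i : G) = d := congrArg Subtype.val e
  rw [← e']
  exact (key i).2

theorem D_comm (h : Hyp T) (hu : orderOf u = 2) (huH : u ∉ Nn T) {a b : G} (ha : a ∈ Dd T u)
    (hb : b ∈ Dd T u) : a * b = b * a := by
  have e := inverts h hu huH (a⁻¹ * b⁻¹) (mul_mem (inv_mem ha) (inv_mem hb))
  rw [mul_inv_rev, inv_inv, inv_inv, show u * (a⁻¹ * b⁻¹) * u⁻¹ = (u * a⁻¹ * u⁻¹) * (u * b⁻¹ * u⁻¹) by group,
    inverts h hu huH _ (inv_mem ha), inverts h hu huH _ (inv_mem hb), inv_inv, inv_inv] at e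
  exact e

theorem exists_D_ne_one (h : Hyp T) (hu : orderOf u = 2) (huH : u ∉ Nn T) :
    ∃ d ∈ Dd T u, d ≠ 1 := by
  by_contra hh
  push Not at hh
  have h1 : Nat.card ↥(Dd T u) = 1 := by rw [(Subgroup.eq_bot_iff_forall _).mpr hh, Subgroup.card_bot]
  rw [card_D h hu huH] at h1
  have := two_le_ee h
  omega

theorem centralizer_odd (h : Hyp T) (hu : orderOf u = 2) (huH : u ∉ Nn T) {d : G}
    (hd : d ∈ Dd T u) (hd1 : d ≠ 1) :
    ∀ k, k * d = d * k → Odd (orderOf k) ∧ u * k * u⁻¹ = k⁻¹ := by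
  haveI : Fact (Nat.Prime 2) := ⟨Nat.prime_two⟩
  set C := centralizer ({d} : Set G) with hC
  have hcg : ∀ g x : G, orderOf (g⁻¹ * x * g) = orderOf x := fun g x => by
    have := orderOf_conj g⁻¹ x
    rwa [inv_inv] at this
  -- elements commuting with an involution and `d`
  have hcom : ∀ {g t : G}, g⁻¹ * t * g ∈ T → orderOf t = 2 → ∀ x : G, x * t = t * x → g⁻¹ * x * g ∈ Aa T := by
    intro g t hg ht x hx
    refine mem_A_of_commute h hg (by rw [hcg, ht]) ?_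
    calc g⁻¹ * x * g * (g⁻¹ * t * g) = g⁻¹ * (x * t) * g := by group
      _ = g⁻¹ * (t * x) * g := by rw [hx]
      _ = _ := by group
  have hodd : Odd (Nat.card C) := by
    rw [← Nat.not_even_iff_odd]
    intro he
    obtain ⟨t, ht⟩ := exists_prime_orderOf_dvd_card' (G := ↥C) 2 he.two_dvd
    have hto : orderOf (t : G) = 2 := by rw [Subgroup.orderOf_coe, ht]
    obtain ⟨g, hg⟩ := exists_conj_T h hto
    have hbA := hcom hg hto d (mem_centralizer_singleton_iff.mp t.2).symm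
    by_cases hgN : g ∈ Nn T
    · refine hd1 (D_inf_A h hu huH ?_ hd)
      have := N_conj_A hgN hbA
      rwa [show g * (g⁻¹ * d * g) * g⁻¹ = d by group] at this
    · have h1 := c1 h hbA (g := g⁻¹) (fun hm => hgN (inv_mem_iff.mp hm))
        (by rw [inv_inv, show g * (g⁻¹ * d * g) * g⁻¹ = d by group]; exact hd.1)
      exact hd1 (by
        calc d = g * (g⁻¹ * d * g) * g⁻¹ := by group
          _ = 1 := by rw [h1]; group)
  have hfix : ∀ x ∈ C, x * u = u * x → x = 1 := by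
    intro x hx hxu
    by_contra hx1
    obtain ⟨g, hg⟩ := exists_conj_T h hu
    have hdN : g⁻¹ * d * g ∈ Nn T := cent_le h (hcom hg hu x hxu) (fun e => hx1 (by
        calc x = g * (g⁻¹ * x * g) * g⁻¹ := by group
          _ = 1 := by rw [e]; group)) (by
      calc g⁻¹ * d * g * (g⁻¹ * x * g) = g⁻¹ * (d * x) * g := by group
        _ = g⁻¹ * (x * d) * g := by rw [mem_centralizer_singleton_iff.mp hx]
        _ = _ := by group)
    exact hd1 (no_inverting_conj (h.le (h.T_le hg)) hu hdN (D_orderOf_odd h huH hd) (inverts h hu huH d hd))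
  have hu' := inv_eq_self_of_orderOf hu
  have hnorm : ∀ k ∈ C, u * k * u⁻¹ ∈ C := fun k hk => by
    have e := inverts h hu huH d hd
    have hd' : d = u * d⁻¹ * u⁻¹ := by
      rw [← e, hu', show u * (u * d * u) * u = (u * u) * d * (u * u) by group, mul_self_eq_one_of_orderOf hu, one_mul, mul_one]
    refine mem_centralizer_singleton_iff.mpr ?_
    rw [hd']
    have hk' : Commute k d⁻¹ := (show Commute k d from mem_centralizer_singleton_iff.mp hk).inv_right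
    calc u * k * u⁻¹ * (u * d⁻¹ * u⁻¹) = u * (k * d⁻¹) * u⁻¹ := by group
      _ = u * (d⁻¹ * k) * u⁻¹ := by rw [hk'.eq]
      _ = _ := by group
  intro k hk
  have hkC : k ∈ C := mem_centralizer_singleton_iff.mpr hk
  let f : C → C := fun x => ⟨(x : G)⁻¹ * (u * x * u⁻¹), C.mul_mem (C.inv_mem x.2) (hnorm x x.2)⟩
  have hinj : Function.Injective f := by
    intro x y e
    have e' : (x : G)⁻¹ * (u * x * u⁻¹) = (y : G)⁻¹ * (u * y * u⁻¹) := congrArg Subtype.val e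
    refine Subtype.ext (mul_inv_eq_one.mp (hfix _ (C.mul_mem y.2 (C.inv_mem x.2)) ?_)).symm
    calc (y : G) * (x : G)⁻¹ * u = y * ((x : G)⁻¹ * (u * x * u⁻¹)) * (u * (x : G)⁻¹) := by group
      _ = y * ((y : G)⁻¹ * (u * y * u⁻¹)) * (u * (x : G)⁻¹) := by rw [e']
      _ = _ := by group
  obtain ⟨x, hx⟩ := Finite.injective_iff_surjective.mp hinj ⟨k, hkC⟩
  have hx' : (x : G)⁻¹ * (u * x * u⁻¹) = k := congrArg Subtype.val hx
  refine ⟨hodd.of_dvd_nat (Subgroup.orderOf_dvd_natCard C hkC), ?_⟩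
  rw [← hx', hu', mul_inv_rev, inv_inv, mul_inv_rev, mul_inv_rev, hu',
    show u * ((x : G)⁻¹ * (u * x * u)) * u = u * (x : G)⁻¹ * u * x * (u * u) by group,
    mul_self_eq_one_of_orderOf hu, mul_one]
  group

theorem centralizer_comm (h : Hyp T) (hu : orderOf u = 2) (huH : u ∉ Nn T) {d a b : G}
    (hd : d ∈ Dd T u) (hd1 : d ≠ 1) (ha : a * d = d * a) (hb : b * d = d * b) : a * b = b * a := by
  have hab : (a⁻¹ * b⁻¹) * d = d * (a⁻¹ * b⁻¹) :=
    ((show Commute a d from ha).inv_left.mul_left (show Commute b d from hb).inv_left).eq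
  have e := (centralizer_odd h hu huH hd hd1 _ hab).2
  rw [mul_inv_rev, inv_inv, inv_inv, show u * (a⁻¹ * b⁻¹) * u⁻¹ = (u * a⁻¹ * u⁻¹) * (u * b⁻¹ * u⁻¹) by group,
    (centralizer_odd h hu huH hd hd1 _ (show Commute a d from ha).inv_left.eq).2,
    (centralizer_odd h hu huH hd hd1 _ (show Commute b d from hb).inv_left.eq).2, inv_inv, inv_inv] at e
  exact e

theorem centralizer_inf (h : Hyp T) (hu : orderOf u = 2) (huH : u ∉ Nn T) {d k : G}
    (hd : d ∈ Dd T u) (hd1 : d ≠ 1) (hk : k * d = d * k) (hkH : k ∈ Nn T) : k ∈ Dd T u := by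
  refine mem_Dd hu hkH ?_
  have e := (centralizer_odd h hu huH hd hd1 k hk).2
  rw [inv_eq_self_of_orderOf hu] at e
  rw [e]
  exact inv_mem hkH

theorem fpf (h : Hyp T) (hu : orderOf u = 2) (huH : u ∉ Nn T) {a d : G} (ha : a ∈ Aa T)
    (hd : d ∈ Dd T u) (hd1 : d ≠ 1) (hc : a * d = d * a) : a = 1 :=
  D_inf_A h hu huH ha (centralizer_inf h hu huH hd hd1 hc (h.le ha))

theorem decomp (h : Hyp T) (hu : orderOf u = 2) (huH : u ∉ Nn T) {x : G} (hx : x ∈ Nn T) :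
    ∃ d ∈ Dd T u, ∃ a ∈ Aa T, x = d * a := by
  obtain ⟨s, hs, hso⟩ := exists_inv_mem h
  obtain ⟨d, hd, e⟩ := StrongEmb.exists_conj_in_inter (se h) hu huH (Subgroup.le_normalizer hs) hso
    (mul_mem (mul_mem hx (Subgroup.le_normalizer hs)) (inv_mem hx)) (by rw [orderOf_conj, hso])
  refine ⟨d, hd, d⁻¹ * x, mem_A_of_commute h hs hso ?_, (mul_inv_cancel_left d x).symm⟩
  calc d⁻¹ * x * s = d⁻¹ * (x * s * x⁻¹) * x := by group
    _ = d⁻¹ * (d * s * d⁻¹) * x := by rw [e]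
    _ = _ := by group

/-- Every element of the coset `dA` is a conjugate of `d` under `A`. -/
theorem exists_conj_coset (h : Hyp T) (hu : orderOf u = 2) (huH : u ∉ Nn T) {d t : G} (hd : d ∈ Dd T u)
    (hd1 : d ≠ 1) (ht : t ∈ Aa T) : ∃ s : ↥(Aa T), (s : G) * d * (s : G)⁻¹ = d * t := by
  let f : ↥(Aa T) → ↥(Aa T) := fun s => ⟨d⁻¹ * s * d * (s : G)⁻¹,
    mul_mem (by simpa using N_conj_A (inv_mem hd.1) s.2) (inv_mem s.2)⟩
  have hf : Function.Injective f := by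
    intro a b e
    have e' : d⁻¹ * (a : G) * d * (a : G)⁻¹ = d⁻¹ * b * d * (b : G)⁻¹ := congrArg Subtype.val e
    refine Subtype.ext (inv_mul_eq_one.mp (fpf h hu huH (mul_mem (inv_mem a.2) b.2) hd hd1 ?_))
    calc (a : G)⁻¹ * b * d = (a : G)⁻¹ * (d * (d⁻¹ * b * d * (b : G)⁻¹)) * b := by group
      _ = (a : G)⁻¹ * (d * (d⁻¹ * a * d * (a : G)⁻¹)) * b := by rw [e']
      _ = _ := by group
  obtain ⟨s, hs⟩ := Finite.injective_iff_surjective.mp hf ⟨t, ht⟩
  refine ⟨s, ?_⟩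
  rw [← show d⁻¹ * (s : G) * d * (s : G)⁻¹ = t from congrArg Subtype.val hs]
  group

theorem card_N (h : Hyp T) : Nat.card ↥(Nn T) = Nat.card ↥(Aa T) * ee T := by
  obtain ⟨u, hu, huH⟩ := exists_u h
  rw [← card_D h hu huH, mul_comm, ← Nat.card_prod]
  refine (Nat.card_eq_of_bijective (fun p : ↥(Dd T u) × ↥(Aa T) =>
    (⟨(p.1 : G) * p.2, mul_mem p.1.2.1 (h.le p.2.2)⟩ : ↥(Nn T))) ⟨?_, ?_⟩).symm
  · rintro ⟨d, a⟩ ⟨d', a'⟩ e
    have e' : (d : G) * a = d' * a' := congrArg Subtype.val e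
    have h1 : (d' : G)⁻¹ * d = a' * (a : G)⁻¹ := by
      calc (d' : G)⁻¹ * d = (d' : G)⁻¹ * (d * a) * (a : G)⁻¹ := by group
        _ = _ := by rw [e']; group
    have h3 := D_inf_A h hu huH (x := (d' : G)⁻¹ * d) (h1 ▸ mul_mem a'.2 (inv_mem a.2))
      (mul_mem (inv_mem d'.2) d.2)
    have hd : d' = d := Subtype.ext (inv_mul_eq_one.mp h3)
    subst hd
    exact Prod.ext rfl (Subtype.ext (mul_left_cancel e'))
  · rintro ⟨x, hx⟩
    obtain ⟨d, hd, a, ha, rfl⟩ := decomp h hu huH hx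
    exact ⟨(⟨d, hd⟩, ⟨a, ha⟩), rfl⟩

theorem coprime_A_D (h : Hyp T) {p : ℕ} (hp : p.Prime) (hpA : p ∣ Nat.card ↥(Aa T)) :
    ¬ p ∣ ee T := by
  classical
  intro hpe
  haveI : Fact p.Prime := ⟨hp⟩
  haveI := Fintype.ofFinite ↥(Aa T)
  obtain ⟨u, hu, huH⟩ := exists_u h
  rw [← card_D h hu huH] at hpe
  obtain ⟨⟨d, hd⟩, hdo⟩ := exists_prime_orderOf_dvd_card' (G := ↥(Dd T u)) p hpe
  rw [Subgroup.orderOf_mk] at hdo
  have hd1 : d ≠ 1 := fun e => hp.ne_one (by rw [← hdo, e, orderOf_one])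
  let σ : Equiv.Perm ↥(Aa T) :=
    { toFun := fun a => ⟨d * a * d⁻¹, N_conj_A hd.1 a.2⟩
      invFun := fun a => ⟨d⁻¹ * a * d, by simpa using N_conj_A (inv_mem hd.1) a.2⟩
      left_inv := fun a => Subtype.ext (show d⁻¹ * (d * a * d⁻¹) * d = a by group)
      right_inv := fun a => Subtype.ext (show d * (d⁻¹ * a * d) * d⁻¹ = a by group) }
  have hpow : ∀ (k : ℕ) (a : ↥(Aa T)), ((σ ^ k) a : G) = d ^ k * a * (d ^ k)⁻¹ := by
    intro k
    induction k with
    | zero => intro a; simp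
    | succ k ih =>
      intro a
      rw [pow_succ', Equiv.Perm.mul_apply]
      show d * ((σ ^ k) a : G) * d⁻¹ = _
      rw [ih a, pow_succ' d]
      group
  have hσ : σ ^ p ^ 1 = 1 := Equiv.ext fun a => Subtype.ext (by
    rw [pow_one, hpow, ← hdo, pow_orderOf_eq_one]; simp)
  let τ : Function.End ↥(Aa T) := ⇑σ
  have hτ : ∀ k : ℕ, τ ^ k = (⇑(σ ^ k) : ↥(Aa T) → ↥(Aa T)) := by
    intro k
    induction k with
    | zero => rfl
    | succ k ih => rw [pow_succ, pow_succ, ih]; rfl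
  have hfix := Equiv.Perm.card_fixedPoints_modEq (p := p) (n := 1) (f := τ) (by rw [hτ, hσ]; rfl)
  have hone : Fintype.card (Function.fixedPoints (σ : ↥(Aa T) → ↥(Aa T))) = 1 := by
    refine Fintype.card_eq_one_iff.mpr ⟨⟨1, Subtype.ext (by show d * 1 * d⁻¹ = 1; group)⟩, ?_⟩
    rintro ⟨a, ha⟩
    refine Subtype.ext (Subtype.ext (fpf h hu huH a.2 hd hd1 ?_))
    exact (mul_inv_eq_iff_eq_mul.mp (congrArg Subtype.val ha)).symm
  rw [← Nat.card_eq_fintype_card (α := ↥(Aa T))] at hfix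
  have h3 : Nat.card ↥(Aa T) ≡ 1 [MOD p] := by rw [← hone]; exact hfix
  have := (Nat.modEq_zero_iff_dvd.mpr hpA).symm.trans h3
  rw [Nat.modEq_iff_dvd] at this
  exact hp.ne_one (Nat.dvd_one.mp (by exact_mod_cast (by simpa using this : (p : ℤ) ∣ 1)))

theorem card_outside (h : Hyp T) :
    Nat.card {i : G // orderOf i = 2 ∧ i ∉ Nn T} + ee T = Subgroup.index (Nn T) * ee T := by
  classical
  have := Fintype.ofFinite (G ⧸ Nn T)
  have h1 : Nat.card {i : G // orderOf i = 2} = Subgroup.index (Nn T) * ee T := by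
    rw [Subgroup.index_eq_card, Nat.card_eq_fintype_card (α := G ⧸ Nn T), ← smul_eq_mul, ← Finset.card_univ,
      ← Finset.sum_const]
    rw [← Finset.sum_congr rfl (fun y _ => StrongEmb.card_coset_involutions (se h) y), ← Nat.card_sigma]
    exact Nat.card_congr ⟨fun i => ⟨(i : G), i, i.2, rfl⟩, fun p => ⟨p.2, p.2.2.1⟩, fun i => rfl,
      fun ⟨z, i, h1, h2⟩ => by subst h2; rfl⟩
  rw [← h1, ← Nat.card_sum]
  refine (Nat.card_congr ((Equiv.sumCompl (fun i : {i : G // orderOf i = 2} => (i : G) ∉ Nn T)).symm.trans (Equiv.sumCongr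
    ⟨fun i => ⟨i.1.1, i.1.2, i.2⟩, fun i => ⟨⟨i.1, i.2.1⟩, i.2.2⟩, fun _ => rfl, fun _ => rfl⟩
    ⟨fun i => ⟨i.1.1, i.1.2, not_not.mp i.2⟩, fun i => ⟨⟨i.1, i.2.1⟩, not_not.mpr i.2.2⟩, fun _ => rfl, fun _ => rfl⟩))).symm

theorem index_N (h : Hyp T) : Subgroup.index (Nn T) = Nat.card ↥(Aa T) + 1 := by
  classical
  obtain ⟨u, hu, huH⟩ := exists_u h
  set D := Dd T u with hD
  set K := centralizer (D : Set G) with hK
  obtain ⟨d₁, hd₁, hd₁1⟩ := exists_D_ne_one h hu huH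
  have hKprop : ∀ k ∈ K, Odd (orderOf k) ∧ u * k * u⁻¹ = k⁻¹ := fun k hk =>
    centralizer_odd h hu huH hd₁ hd₁1 k (hk d₁ hd₁).symm
  have hKmem : ∀ {v d : G}, d ∈ D → d ≠ 1 → v * d = d * v → v ∈ K := fun {v d} hd hd1 e a ha =>
    centralizer_comm h hu huH hd hd1 (D_comm h hu huH ha hd) e
  have hKinv : ∀ k ∈ K, orderOf (u * k) = 2 ∧ u * k ∉ Nn T := by
    intro k hk
    have h4 : u * k * (u * k) = 1 := by
      have e := (hKprop k hk).2
      rw [inv_eq_self_of_orderOf hu] at e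
      rw [← mul_assoc, e, inv_mul_cancel]
    have hne : u * k ≠ 1 := fun e => by
      have h3 := (hKprop k hk).1
      rw [eq_inv_of_mul_eq_one_right e, orderOf_inv, hu] at h3
      exact absurd h3 (by decide)
    have ho : orderOf (u * k) = 2 := Involutions.orderOf_eq_two_iff'.mpr ⟨h4, hne⟩
    refine ⟨ho, fun hm => hd₁1 (no_inverting hm ho hd₁.1 (D_orderOf_odd h huH hd₁) ?_)⟩
    rw [show u * k * d₁ * (u * k)⁻¹ = u * (k * d₁ * k⁻¹) * u⁻¹ by group, ← hk d₁ hd₁, mul_inv_cancel_right]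
    exact inverts h hu huH d₁ hd₁
  let P := {p : G × G // (orderOf p.1 = 2 ∧ p.1 ∉ Nn T) ∧ p.2 ∈ Dd T p.1 ∧ p.2 ≠ 1}
  let F : ↥(Aa T) × {d : ↥D // d ≠ 1} × ↥K → P := fun q =>
    ⟨((q.1 : G) * (u * (q.2.2 : G)) * (q.1 : G)⁻¹, (q.1 : G) * ((q.2.1.1 : ↥D) : G) * (q.1 : G)⁻¹), by
      obtain ⟨t, ⟨⟨d, hd⟩, hd1⟩, ⟨k, hk⟩⟩ := q
      obtain ⟨ho, hn⟩ := hKinv k hk
      have htH : (t : G) ∈ Nn T := h.le t.2
      have hinv : u * k * d⁻¹ * (u * k)⁻¹ = d := by
        rw [show u * k * d⁻¹ * (u * k)⁻¹ = u * (k * d⁻¹ * k⁻¹) * u⁻¹ by group, ← hk d⁻¹ (D.inv_mem hd),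
          mul_inv_cancel_right, inverts h hu huH _ (D.inv_mem hd), inv_inv]
      refine ⟨⟨by rw [orderOf_conj, ho], fun hm => hn ?_⟩, Subgroup.mem_inf.mpr
        ⟨Subgroup.mul_mem _ (Subgroup.mul_mem _ htH hd.1) (Subgroup.inv_mem _ htH),
          ⟨(t : G) * d⁻¹ * (t : G)⁻¹, Subgroup.mul_mem _ (Subgroup.mul_mem _ htH (Subgroup.inv_mem _ hd.1)) (Subgroup.inv_mem _ htH), ?_⟩⟩,
        fun e => hd1 (Subtype.ext (conj_eq_one_iff.mp e))⟩
      · have := Subgroup.mul_mem _ (Subgroup.mul_mem _ (Subgroup.inv_mem _ htH) hm) htH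
        simpa [mul_assoc] using this
      · show (t : G) * (u * k) * (t : G)⁻¹ * ((t : G) * d⁻¹ * (t : G)⁻¹) * ((t : G) * (u * k) * (t : G)⁻¹)⁻¹ = (t : G) * d * (t : G)⁻¹
        rw [show (t : G) * (u * k) * (t : G)⁻¹ * ((t : G) * d⁻¹ * (t : G)⁻¹) * ((t : G) * (u * k) * (t : G)⁻¹)⁻¹ =
          (t : G) * (u * k * d⁻¹ * (u * k)⁻¹) * (t : G)⁻¹ by group, hinv]⟩
  have hF : Function.Bijective F := by
    constructor
    · rintro ⟨t, ⟨⟨d, hd⟩, hd1⟩, ⟨k, hk⟩⟩ ⟨t', ⟨⟨d', hd'⟩, hd1'⟩, ⟨k', hk'⟩⟩ e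
      have e1 : (t : G) * (u * k) * (t : G)⁻¹ = t' * (u * k') * (t' : G)⁻¹ := congrArg (fun p : P => p.1.1) e
      have e2 : (t : G) * d * (t : G)⁻¹ = t' * d' * (t' : G)⁻¹ := congrArg (fun p : P => p.1.2) e
      set s := (t' : G)⁻¹ * t with hs
      have hsA : s ∈ Aa T := mul_mem (inv_mem t'.2) t.2
      have e3 : s * d * s⁻¹ = d' := by
        rw [show s * d * s⁻¹ = (t' : G)⁻¹ * ((t : G) * d * (t : G)⁻¹) * t' by rw [hs]; group, e2]; group
      have hdd : d' * d⁻¹ ∈ Aa T := by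
        rw [← e3, show s * d * s⁻¹ * d⁻¹ = s * (d * s⁻¹ * d⁻¹) by group]
        exact mul_mem hsA (N_conj_A hd.1 (inv_mem hsA))
      have hde : d' = d := mul_inv_eq_one.mp (D_inf_A h hu huH hdd (D.mul_mem hd' (D.inv_mem hd)))
      subst hde
      have hs1 : s = 1 := fpf h hu huH hsA hd (fun e => hd1 (Subtype.ext e)) (mul_inv_eq_iff_eq_mul.mp e3)
      have ht : t = t' := Subtype.ext (inv_mul_eq_one.mp (hs ▸ hs1)).symm
      subst ht
      simp only [mul_left_inj, mul_right_inj] at e1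
      subst e1
      rfl
    · rintro ⟨⟨i, x⟩, ⟨hio, hiH⟩, hxD, hx1⟩
      obtain ⟨d, hd, t, ht, hdt⟩ := decomp h hu huH hxD.1
      have hd1 : d ≠ 1 := fun e => by
        rw [e, one_mul] at hdt
        exact hx1 (D_inf_A h hio hiH (hdt ▸ ht) hxD)
      obtain ⟨s, hs⟩ := exists_conj_coset h hu huH hd hd1 ht
      rw [← hdt] at hs
      set v := u⁻¹ * ((s : G)⁻¹ * i * s) with hv
      have hiv : (s : G)⁻¹ * i * s = u * v := by rw [hv, mul_inv_cancel_left]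
      have hvd : v * d = d * v := by
        have e1 : (s : G)⁻¹ * i * s * d * ((s : G)⁻¹ * i * s)⁻¹ = d⁻¹ := by
          calc (s : G)⁻¹ * i * s * d * ((s : G)⁻¹ * i * s)⁻¹ = (s : G)⁻¹ * (i * (s * d * (s : G)⁻¹) * i⁻¹) * s := by group
            _ = (s : G)⁻¹ * x⁻¹ * s := by rw [hs, inverts h hio hiH x hxD]
            _ = (s : G)⁻¹ * (s * d * (s : G)⁻¹)⁻¹ * s := by rw [hs]
            _ = d⁻¹ := by group
        rw [hiv, show u * v * d * (u * v)⁻¹ = u * (v * d * v⁻¹) * u⁻¹ by group, ← inverts h hu huH d hd] at e1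
        exact mul_inv_eq_iff_eq_mul.mp (mul_left_cancel (mul_right_cancel e1))
      refine ⟨(s, ⟨⟨d, hd⟩, fun e => hd1 (congrArg Subtype.val e)⟩, ⟨v, hKmem hd hd1 hvd⟩), Subtype.ext (Prod.ext ?_ hs)⟩
      show (s : G) * (u * v) * (s : G)⁻¹ = i
      rw [← hiv]; group
  have hsub : ∀ (E : Subgroup G), Nat.card {d : ↥E // d ≠ 1} = Nat.card E - 1 := by
    intro E
    have := Fintype.ofFinite ↥E
    rw [Nat.card_eq_fintype_card, Fintype.card_subtype_compl, Fintype.card_subtype_eq, Nat.card_eq_fintype_card]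
  have hP : Nat.card P = Nat.card {i : G // orderOf i = 2 ∧ i ∉ Nn T} * (ee T - 1) := by
    have := Fintype.ofFinite {i : G // orderOf i = 2 ∧ i ∉ Nn T}
    have e : P ≃ Σ i : {i : G // orderOf i = 2 ∧ i ∉ Nn T}, {x : ↥(Dd T (i : G)) // x ≠ 1} :=
      ⟨fun p => ⟨⟨p.1.1, p.2.1⟩, ⟨p.1.2, p.2.2.1⟩, fun e => p.2.2.2 (congrArg Subtype.val e)⟩,
        fun q => ⟨((q.1 : G), ((q.2.1 : ↥(Dd T (q.1 : G))) : G)), q.1.2, q.2.1.2, fun e => q.2.2 (Subtype.ext e)⟩,
        fun _ => rfl, fun _ => rfl⟩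
    rw [Nat.card_congr e, Nat.card_sigma, Finset.sum_congr rfl (fun (i : {i : G // orderOf i = 2 ∧ i ∉ Nn T}) _ => show
      Nat.card {x : ↥(Dd T (i : G)) // x ≠ 1} = ee T - 1 by rw [hsub, card_D h i.2.1 i.2.2]),
      Finset.sum_const, Finset.card_univ, smul_eq_mul, ← Nat.card_eq_fintype_card (α := {i : G // orderOf i = 2 ∧ i ∉ Nn T})]
  have hcard := Nat.card_eq_of_bijective F hF
  rw [Nat.card_prod, Nat.card_prod, hsub, hP] at hcard
  have hO := card_outside h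
  have hDc : Nat.card ↥D = ee T := card_D h hu huH
  have he2 := two_le_ee h
  rw [hDc] at hcard
  have hqK : Nat.card ↥(Aa T) * Nat.card K = Nat.card {i : G // orderOf i = 2 ∧ i ∉ Nn T} := by
    refine Nat.eq_of_mul_eq_mul_right (show 0 < ee T - 1 by omega) ?_
    rw [← hcard]
    ring
  have hDK : D ≤ K := fun a ha b hb => D_comm h hu huH hb ha
  obtain ⟨m, hm⟩ := Subgroup.card_dvd_of_le hDK
  rw [hDc] at hm
  have hn : Subgroup.index (Nn T) = Nat.card ↥(Aa T) * m + 1 := by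
    refine Nat.eq_of_mul_eq_mul_right (show 0 < ee T by omega) ?_
    rw [← hO, ← hqK, hm, add_mul, one_mul]
    ring
  have hm1 : m = 1 := by
    by_contra hm1
    obtain ⟨p, hp, hpm⟩ := Nat.exists_prime_and_dvd hm1
    haveI : Fact p.Prime := ⟨hp⟩
    have hpn : ¬ p ∣ Subgroup.index (Nn T) := by
      rw [hn]
      intro hd
      exact hp.ne_one (Nat.dvd_one.mp ((Nat.dvd_add_right (dvd_mul_of_dvd_right hpm _)).mp hd))
    have hG : ee T * m ∣ ee T * (Subgroup.index (Nn T) * Nat.card ↥(Aa T)) := by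
      rw [← hm, show ee T * (Subgroup.index (Nn T) * Nat.card ↥(Aa T)) =
        Subgroup.index (Nn T) * (Nat.card ↥(Aa T) * ee T) by ring, ← card_N h, Subgroup.index_mul_card]
      exact Subgroup.card_subgroup_dvd_card K
    have hpA : p ∣ Nat.card ↥(Aa T) :=
      (hp.dvd_mul.mp (hpm.trans (Nat.dvd_of_mul_dvd_mul_left (by omega) hG))).resolve_left hpn
    have hidx : (Aa T).index = Subgroup.index (Nn T) * ee T := by
      have e1 := (Aa T).index_mul_card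
      rw [← (Nn T).index_mul_card, card_N h] at e1
      exact Nat.eq_of_mul_eq_mul_right Nat.card_pos (e1.trans (by ring))
    have hpi : ¬ p ∣ (Aa T).index := by
      rw [hidx]
      exact fun hd => (hp.dvd_mul.mp hd).elim hpn (coprime_A_D h hp hpA)
    obtain ⟨⟨k, hk⟩, hko⟩ := exists_prime_orderOf_dvd_card' (G := ↥K) p (hm ▸ dvd_mul_of_dvd_right hpm _)
    rw [Subgroup.orderOf_mk] at hko
    have hk1 : k ≠ 1 := fun e => hp.ne_one (by rw [← hko, e, orderOf_one])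
    obtain ⟨c, hc⟩ := BSW.exists_conj_mem (Aa T) hp hko hpi
    have hb1 : c * k * c⁻¹ ≠ 1 := fun e => hk1 (conj_eq_one_iff.mp e)
    have hkd : k * d₁ = d₁ * k := (hk d₁ hd₁).symm
    have hcN : c ∉ Nn T := by
      intro hcN
      have hkA : k ∈ Aa T := by
        have := N_conj_A (inv_mem hcN) hc
        rwa [show c⁻¹ * (c * k * c⁻¹) * c⁻¹⁻¹ = k by group] at this
      exact hk1 (fpf h hu huH hkA hd₁ hd₁1 hkd)
    have hd' : c * d₁ * c⁻¹ ∈ Nn T := cent_le h hc hb1 (by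
      calc c * d₁ * c⁻¹ * (c * k * c⁻¹) = c * (d₁ * k) * c⁻¹ := by group
        _ = c * (k * d₁) * c⁻¹ := by rw [hkd]
        _ = _ := by group)
    obtain ⟨d, hd, a, ha, hda⟩ := decomp h hu huH hd'
    have hd1 : d = 1 := by
      by_contra hd1
      obtain ⟨s, hs⟩ := exists_conj_coset h hu huH hd hd1 ha
      rw [← hda] at hs
      refine hb1 (conj_eq_one_iff.mp (fpf h hu huH (a := (s : G)⁻¹ * (c * k * c⁻¹) * (s : G)⁻¹⁻¹)
        (mul_mem (mul_mem (inv_mem s.2) hc) (inv_mem (inv_mem s.2))) hd hd1 ?_))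
      have e1 : c * k * c⁻¹ * (c * d₁ * c⁻¹) = c * d₁ * c⁻¹ * (c * k * c⁻¹) := by
        calc c * k * c⁻¹ * (c * d₁ * c⁻¹) = c * (k * d₁) * c⁻¹ := by group
          _ = c * (d₁ * k) * c⁻¹ := by rw [hkd]
          _ = _ := by group
      rw [← hs] at e1
      calc (s : G)⁻¹ * (c * k * c⁻¹) * (s : G)⁻¹⁻¹ * d
          = (s : G)⁻¹ * (c * k * c⁻¹ * (s * d * (s : G)⁻¹)) * s := by group
        _ = (s : G)⁻¹ * (s * d * (s : G)⁻¹ * (c * k * c⁻¹)) * s := by rw [e1]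
        _ = _ := by group
    rw [hd1, one_mul] at hda
    have h1 := c1 h (hda ▸ ha) hcN (by rw [show c⁻¹ * (c * d₁ * c⁻¹) * c = d₁ by group]; exact hd₁.1)
    exact hd₁1 (conj_eq_one_iff.mp h1)
  rw [hn, hm1, mul_one]

end CfsgLib.CentTI
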