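import Mathlib.GroupTheory.Sylow
import Cfsg.Agent.Lib.TwoFusion.StrongEmb

/-!
A trivial intersection centraliser of all the involutions of a strongly embedded Sylow normaliser: first facts.
-/

set_option autoImplicit false
set_option linter.unusedSectionVars false

namespace CfsgLib.CentTI

open Cfsg Subgroup
open CfsgLib.Involutions (mul_self_eq_one_of_orderOf inv_eq_self_of_orderOf orderOf_conj)

variable {G : Type*} [Group G] [Finite G]

/-- The normaliser of the Sylow subgroup. -/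
abbrev Nn (T : Sylow 2 G) : Subgroup G := Subgroup.normalizer ((T : Subgroup G) : Set G)

/-- The centraliser of the involutions of the Sylow subgroup. -/
abbrev Aa (T : Sylow 2 G) : Subgroup G := Subgroup.centralizer {t : G | t ∈ T ∧ orderOf t = 2}

/-- The two-point stabiliser `N ∩ uNu⁻¹`. -/
abbrev Dd (T : Sylow 2 G) (u : G) : Subgroup G := Nn T ⊓ (Nn T).map (MulAut.conj u).toMonoidHom

/-- The hypotheses. -/
structure Hyp (T : Sylow 2 G) : Prop where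
  two : ∃ s ∈ T, ∃ t ∈ T, orderOf s = 2 ∧ orderOf t = 2 ∧ s ≠ t
  T_le : (T : Subgroup G) ≤ Aa T
  le : Aa T ≤ Nn T
  inv_cent : ∀ t ∈ T, orderOf t = 2 → ∀ x : G, x * t = t * x → x ∈ Aa T
  cent : ∀ b ∈ Aa T, b ≠ 1 → ∀ x : G, x * b = b * x → x ∈ Nn T
  ti : ∀ b ∈ Aa T, ∀ g : G, g ∉ Nn T → g⁻¹ * b * g ∈ Aa T → b = 1
  se : IsStronglyEmbedded (Nn T)

variable {T : Sylow 2 G}

theorem se (h : Hyp T) : IsStronglyEmbedded (Nn T) := h.se

theorem exists_inv_mem (h : Hyp T) : ∃ t ∈ T, orderOf t = 2 := by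
  obtain ⟨s, hs, -, -, hso, -⟩ := h.two
  exact ⟨s, hs, hso⟩

theorem mem_A_of_commute (h : Hyp T) {t x : G} (ht : t ∈ T) (ho : orderOf t = 2) (hx : x * t = t * x) :
    x ∈ Aa T := h.inv_cent t ht ho x hx

theorem cent_le (h : Hyp T) {b : G} (hb : b ∈ Aa T) (hb1 : b ≠ 1) {x : G} (hx : x * b = b * x) :
    x ∈ Nn T := h.cent b hb hb1 x hx

theorem A_ti (h : Hyp T) {b g : G} (hb : b ∈ Aa T) (hg : g ∉ Nn T) (hbg : g⁻¹ * b * g ∈ Aa T) :
    b = 1 := h.ti b hb g hg hbg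

theorem mem_A_iff {x : G} : x ∈ Aa T ↔ ∀ t, t ∈ T → orderOf t = 2 → t * x = x * t :=
  ⟨fun h t ht ho => Subgroup.mem_centralizer_iff.mp h t ⟨ht, ho⟩,
    fun h => Subgroup.mem_centralizer_iff.mpr fun t ht => h t ht.1 ht.2⟩

theorem two_le_ee' (h : Hyp T) : 2 ≤ Nat.card {t : G // orderOf t = 2 ∧ t ∈ Nn T} := by
  obtain ⟨s, hs, t, ht, hso, hto, hne⟩ := h.two
  haveI : Nontrivial {t : G // orderOf t = 2 ∧ t ∈ Nn T} :=
    ⟨⟨⟨s, hso, Subgroup.le_normalizer hs⟩, ⟨t, hto, Subgroup.le_normalizer ht⟩, fun e => hne (congrArg Subtype.val e)⟩⟩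
  exact Finite.one_lt_card

/-- The number of involutions of `N`. -/
noncomputable abbrev ee (T : Sylow 2 G) : ℕ := Nat.card {t : G // orderOf t = 2 ∧ t ∈ Nn T}

theorem two_le_ee (h : Hyp T) : 2 ≤ ee T := two_le_ee' h

theorem N_conj_T {n t : G} (hn : n ∈ Nn T) (ht : t ∈ T) : n * t * n⁻¹ ∈ T :=
  (Subgroup.mem_normalizer_iff.mp hn t).mp ht

theorem inv_mem_T {x : G} (hx : x ∈ Nn T) (ho : orderOf x = 2) : x ∈ T := by
  haveI : Fact (Nat.Prime 2) := ⟨Nat.prime_two⟩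
  have h2 : IsPGroup 2 ↥(Subgroup.zpowers x ⊔ (T : Subgroup G)) :=
    (IsPGroup.of_card (n := 1) (by rw [Nat.card_zpowers, ho, pow_one]) : IsPGroup 2 ↥(Subgroup.zpowers x)).to_sup_of_normal_right'
      T.2 (Subgroup.zpowers_le.mpr hx)
  exact le_sup_left.trans (T.3 h2 le_sup_right).le (Subgroup.mem_zpowers x)

theorem exists_conj_T (h : Hyp T) {u : G} (hu : orderOf u = 2) :
    ∃ g : G, g⁻¹ * u * g ∈ T := by
  obtain ⟨g, hg⟩ := StrongEmb.isConj_of_mem (se h) hu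
  have := orderOf_conj g⁻¹ u
  rw [inv_inv] at this
  exact ⟨g, inv_mem_T hg (this.trans hu)⟩

theorem exists_not_mem (h : Hyp T) : ∃ g : G, g ∉ Nn T := by
  by_contra hh
  push Not at hh
  exact (se h).1 ((Subgroup.eq_top_iff' _).mpr hh)

theorem exists_u (h : Hyp T) : ∃ u : G, orderOf u = 2 ∧ u ∉ Nn T := by
  obtain ⟨s, hs, hso⟩ := exists_inv_mem h
  obtain ⟨g, hg⟩ := exists_not_mem h
  exact ⟨g * s * g⁻¹, by rw [orderOf_conj, hso],
    fun hm => hg (StrongEmb.mem_of_conj (se h) (Subgroup.le_normalizer hs) hso hm)⟩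

theorem no_inverting {j s : G} (hj : j ∈ Nn T) (ho : orderOf j = 2) (hs : s ∈ Nn T) (hodd : Odd (orderOf s))
    (e : j * s * j⁻¹ = s⁻¹) : s = 1 := by
  have hjT := inv_mem_T hj ho
  have hm : j * (s * j⁻¹ * s⁻¹) ∈ (T : Subgroup G) :=
    (T : Subgroup G).mul_mem hjT (N_conj_T hs ((T : Subgroup G).inv_mem hjT))
  rw [show j * (s * j⁻¹ * s⁻¹) = j * s * j⁻¹ * s⁻¹ by group, e] at hm
  obtain ⟨k, hk⟩ := IsPGroup.iff_orderOf.mp T.2 ⟨_, hm⟩
  rw [Subgroup.orderOf_mk] at hk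
  have h2 : (orderOf (s⁻¹ * s⁻¹)).Coprime 2 := by
    refine Nat.coprime_two_right.mpr (hodd.of_dvd_nat ?_)
    refine orderOf_dvd_of_pow_eq_one ?_
    rw [← sq, ← pow_mul, mul_comm, pow_mul, inv_pow, pow_orderOf_eq_one, inv_one, one_pow]
  rw [hk] at h2
  have h3 : orderOf (s⁻¹ * s⁻¹) = 1 := by
    rcases Nat.eq_zero_or_pos k with h0 | h0
    · rw [hk, h0, pow_zero]
    · exact absurd h2 (by rw [Nat.coprime_pow_left_iff h0]; norm_num)
  have h4 : s * s = 1 := by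
    rw [orderOf_eq_one_iff, ← mul_inv_rev, inv_eq_one] at h3
    exact h3
  by_contra hs1
  rw [Involutions.orderOf_eq_two_iff'.mpr ⟨h4, hs1⟩] at hodd
  exact absurd hodd (by decide)

theorem no_inverting_conj {g j s : G} (hj : g⁻¹ * j * g ∈ Nn T) (ho : orderOf j = 2) (hs : g⁻¹ * s * g ∈ Nn T)
    (hodd : Odd (orderOf s)) (e : j * s * j⁻¹ = s⁻¹) : s = 1 := by
  have hc : ∀ x : G, orderOf (g⁻¹ * x * g) = orderOf x := fun x => by
    have := orderOf_conj g⁻¹ x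
    rwa [inv_inv] at this
  have := no_inverting hj (by rw [hc, ho]) hs (by rw [hc]; exact hodd) (by
    calc g⁻¹ * j * g * (g⁻¹ * s * g) * (g⁻¹ * j * g)⁻¹ = g⁻¹ * (j * s * j⁻¹) * g := by group
      _ = g⁻¹ * s⁻¹ * g := by rw [e]
      _ = _ := by group)
  calc s = g * (g⁻¹ * s * g) * g⁻¹ := by group
    _ = 1 := by rw [this]; group

theorem N_conj_A {n a : G} (hn : n ∈ Nn T) (ha : a ∈ Aa T) : n * a * n⁻¹ ∈ Aa T := by
  refine mem_A_iff.mpr fun t ht ho => ?_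
  have e := mem_A_iff.mp ha (n⁻¹ * t * n) (by simpa using N_conj_T (Subgroup.inv_mem _ hn) ht)
    (by rw [show n⁻¹ * t * n = n⁻¹ * t * n⁻¹⁻¹ by group, orderOf_conj, ho])
  calc t * (n * a * n⁻¹) = n * (n⁻¹ * t * n * a) * n⁻¹ := by group
    _ = n * (a * (n⁻¹ * t * n)) * n⁻¹ := by rw [e]
    _ = n * a * n⁻¹ * t := by group

end CfsgLib.CentTI
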